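import Cfsg.Agent.Lib.Helper2.BG96F
import Cfsg.Agent.Lib.Helper68.BG10C
import Cfsg.Agent.Lib.Helper58.BG9e
import Cfsg.Agent.S1396
import Cfsg.Agent.S1410
import Cfsg.Agent.S1411

/-!
Bender-Glauberman Proposition 10.9 (in the form needed in sections 11 and 12).
-/

set_option autoImplicit false
set_option linter.unusedSectionVars false

namespace Cfsg.Agent.Lib.Helper14.BG11

open Subgroup Cfsg.Agent.Lib.Helper30 Cfsg.Agent.Lib.Helper2

universe u

variable {G : Type u} [Group G] [Finite G]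

/-- a maximal elementary abelian subgroup contains every element of order `p` centralizing it. -/
theorem mem_of_max {p : ℕ} {A : Subgroup G} (hA : Cfsg.IsElementaryAbelian p A)
    (hmax : ∀ B : Subgroup G, Cfsg.IsElementaryAbelian p B → A ≤ B → B = A) :
    ∀ x ∈ centralizer (A : Set G), x ^ p = 1 ↔ x ∈ A := by
  intro x hx
  refine ⟨fun hxp => ?_, fun h => hA.2 x h⟩
  have h1 : Cfsg.IsElementaryAbelian p (A ⊔ zpowers x) := by
    refine ea_sup hA (Cfsg.Agent.Lib.Helper2.BG96.ea_zpowers hxp) ?_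
    intro a ha b hb
    have h2 : zpowers x ≤ centralizer (A : Set G) := (zpowers_le).mpr hx
    exact (mem_centralizer_iff.mp (h2 hb) a ha)
  have h2 := hmax _ h1 le_sup_left
  rw [← h2]
  exact (le_sup_right : zpowers x ≤ A ⊔ zpowers x) (mem_zpowers x)

/-- B-G 10.9: `A` maximal elementary abelian of order `p ^ 2`, `q ∣ |C(A)|`, `Q` a maximal
`A`-invariant `q`-subgroup.  Some Sylow `p`-subgroup `S ≥ A` of `G` normalizes `Q` and lies in
`N(Q)'`. -/
theorem L109 (hG : Cfsg.IsMinSimpleOddOrder G) {p q : ℕ} [hp : Fact p.Prime] [hq : Fact q.Prime]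
    (hpq : p ≠ q) {A Q : Subgroup G} (hA : Cfsg.IsElementaryAbelian p A) (hA2 : Nat.card A = p ^ 2)
    (hmax : ∀ B : Subgroup G, Cfsg.IsElementaryAbelian p B → A ≤ B → B = A)
    (hqC : q ∣ Nat.card (centralizer (A : Set G))) (hQ : Q ∈ Cfsg.maxInvSubgroups ⊤ A {q}) :
    ∃ S : Sylow p G, A ≤ (S : Subgroup G) ∧ (S : Subgroup G) ≤ normalizer (Q : Set G) ∧
      (S : Subgroup G) ≤ ⁅normalizer (Q : Set G), normalizer (Q : Set G)⁆ := by
  have hp1 := hp.out.one_lt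
  have hAp : IsPGroup p A := ea_isPGroup hA
  have hA1 : A ≠ ⊥ := by
    rintro rfl
    rw [card_bot] at hA2
    have : 1 < p ^ 2 := Nat.one_lt_pow (by norm_num) hp1
    omega
  have hpG : p ∣ Nat.card G :=
    (dvd_card_of_isPGroup_ne_bot hAp hA1).trans (Subgroup.card_subgroup_dvd_card A)
  have hTH : Cfsg.TransitivityHypothesis A :=
    Cfsg.Agent.S1396.result hG p hpG A hAp hA.1
      (Or.inl ⟨mem_of_max hA hmax, fun H hH => Cfsg.Agent.S1410.result hG p H hH⟩)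
  have hZ : ¬ Cfsg.RankLE 1 ↥(A ⊓ centralizer (A : Set G)) :=
    Cfsg.Agent.Lib.Helper58.BG9.not_rankLE_one_of_elementary
      (le_inf le_rfl (ea_le_centralizer hA le_rfl)) hA hA2.ge
  have hqA : ¬ q ∣ Nat.card A := Cfsg.Agent.Lib.Helper2.BG96.not_dvd_card_pgroup hpq.symm hAp
  have htr : ∀ Q₁ ∈ Cfsg.maxInvSubgroups ⊤ A {q}, ∀ Q₂ ∈ Cfsg.maxInvSubgroups ⊤ A {q},
      ∃ k ∈ transK A, Q₂ = cj k Q₁ := fun Q₁ h₁ Q₂ h₂ => kconj_of_rank_two hG hTH hZ hqA hqC h₁ h₂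
  obtain ⟨S0, hAS0⟩ := hAp.exists_le_sylow
  have hsn : (A.subgroupOf (S0 : Subgroup G)).IsSubnormal := by
    have : Group.IsNilpotent (S0 : Subgroup G) := S0.2.isNilpotent
    exact Cfsg.Agent.Lib.Helper52.isSubnormal_of_isNilpotent _
  obtain ⟨-, -, hsub, hd⟩ := trans_superset hG hTH hqA
    (Cfsg.Agent.Lib.Helper2.BG96.pi_of_pgroups hAp hA1 S0.2) hAS0 hsn htr
  obtain ⟨Q', hQ', -⟩ := exists_maxInv_ge (A := (S0 : Subgroup G)) (S := (⊥ : Subgroup G)) (q := q)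
    (IsPGroup.of_bot) (by intro x _; rw [mem_normalizer_iff]; intro y; simp [mem_bot])
  obtain ⟨V, hV, -⟩ := Cfsg.Agent.Lib.Helper68.exists_isComplIn_normalizer S0
  have h11 := (Cfsg.Agent.S1411.result hG p S0 V hV).2
  have h1 : (S0 : Subgroup G) ≤ ⁅normalizer (Q' : Set G), normalizer (Q' : Set G)⁆ :=
    (le_inf le_rfl h11).trans (hd Q' hQ').1
  have h2 : (S0 : Subgroup G) ≤ normalizer (Q' : Set G) := (mem_invSubgroups_top_iff.mp hQ'.1).2
  obtain ⟨k, hk, rfl⟩ := htr Q' (hsub hQ') Q hQ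
  have hkC := transK_le_centralizer A hk
  have hkA : cj k A = A := cj_eq_of_mem_normalizer (centralizer_le_normalizer _ hkC)
  refine ⟨MulAut.conj k • S0, ?_, ?_, ?_⟩
  · have : cj k A ≤ cj k (S0 : Subgroup G) := cj_mono k hAS0
    rw [hkA] at this
    exact this
  · rw [normalizer_cj]
    exact cj_mono k h2
  · rw [normalizer_cj, ← cj_commutator]
    exact cj_mono k h1

/-- the form of 10.9 used in 11.7. -/
theorem L109c (hG : Cfsg.IsMinSimpleOddOrder G) {p q : ℕ} [hp : Fact p.Prime] [hq : Fact q.Prime]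
    (hpq : p ≠ q) {A Q : Subgroup G} (hA : Cfsg.IsElementaryAbelian p A) (hA2 : Nat.card A = p ^ 2)
    (hmax : ∀ B : Subgroup G, Cfsg.IsElementaryAbelian p B → A ≤ B → B = A)
    (hqC : q ∣ Nat.card (centralizer (A : Set G))) (hQ : Q ∈ Cfsg.maxInvSubgroups ⊤ A {q}) :
    A ≤ ⁅normalizer (Q : Set G), normalizer (Q : Set G)⁆ := by
  obtain ⟨S, h1, -, h3⟩ := L109 hG hpq hA hA2 hmax hqC hQ
  exact h1.trans h3

end Cfsg.Agent.Lib.Helper14.BG11
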