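import Cfsg.Agent.Lib.Helper14.BG12B
import Cfsg.Agent.Lib.Helper39.BG11Defs
import Cfsg.Agent.Lib.Helper3.BG117C

/-!
`Exc11` from the results of B-G section 11 (`T11`, helper39) and B-G 11.7 (`exc_normal`, helper3).
-/

set_option autoImplicit false

namespace Cfsg.Agent.Lib.Helper14.BG12

open Subgroup Cfsg.Agent.Lib.Helper30 Cfsg.Agent.Lib.Helper39.BG11

universe u

variable {G : Type u} [Group G]

theorem exc11_of [Finite G] (hG : Cfsg.IsMinSimpleOddOrder G) (h11 : T11 G) : Exc11 G := by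
  intro H hH p _ hp A A₀ hAH hA hA2 hA₀ hc₀ hN
  have h : Hyp H p A A₀ := ⟨hH, hp, hAH, hA, hA2, hA₀, hc₀, hN⟩
  have res := h11 H p A A₀ h
  obtain ⟨A₁, A₂, h1, h2, hc1, hc2, h12, hf1, hf2⟩ := res.fpf2
  refine ⟨res.nil, Cfsg.Agent.Lib.Helper3.BG117.exc_normal hG hH hp hAH hA hA2 ?_ h1 h2 hc1 hc2 h12
    hf1 hf2⟩
  intro P hP hAP
  refine ⟨res.comm P hP, fun x hx hxp => ?_⟩
  exact (res.omega x (mem_centralizer_iff.mpr
    (fun a ha => res.comm P hP a (hAP ha) x hx))).mp hxp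

end Cfsg.Agent.Lib.Helper14.BG12
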