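import Cfsg.Agent.Lib.Helper28.BG12b
import Cfsg.Agent.Lib.Helper14.BG11A
import Cfsg.Agent.S1408

/-!
Bender-Glauberman Lemma 12.3 (conditional on the facts of section 11 on exceptional maximal
subgroups, `Exc11`, and on two small rungs `T6`, `T7`).
-/

set_option autoImplicit false
set_option linter.unusedSectionVars false

namespace Cfsg.Agent.Lib.Helper14.BG12

open Subgroup Cfsg.Agent.Lib.Helper30 Cfsg.Agent.Lib.Helper2 Cfsg.Agent.Lib.Helper68
open Cfsg.Agent.Lib.Helper28.BG12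
open scoped commutatorElement

universe u

variable {G : Type u} [Group G]

/-- the facts of B-G section 11 used in section 12. -/
def Exc11 (G : Type u) [Group G] : Prop :=
  ∀ (H : Subgroup G), IsCoatom H → ∀ (p : ℕ) [Fact p.Prime], p ∉ Cfsg.sigma H →
    ∀ A A₀ : Subgroup G, A ≤ H → Cfsg.IsElementaryAbelian p A → Nat.card A = p ^ 2 → A₀ ≤ A →
      Nat.card A₀ = p → normalizer (A₀ : Set G) ≤ H →
      Group.IsNilpotent ↥(Cfsg.sigmaCore H) ∧
        H ≤ normalizer ((Cfsg.sigmaCore H ⊔ A : Subgroup G) : Set G)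

/-- rung P6. -/
def T6 (G : Type u) [Group G] : Prop :=
  ∀ {M H : Subgroup G}, IsCoatom M → IsCoatom H → ∀ {q : ℕ}, q ∈ Cfsg.alpha M → q ∈ Cfsg.sigma H →
    ∃ g : G, H = cj g M

/-- rung P7. -/
def T7 (G : Type u) [Group G] : Prop :=
  ∀ {H : Subgroup G}, IsCoatom H → ∀ {R A : Subgroup G}, R ≤ ⁅H, H⁆ → A ≤ ⁅H, H⁆ →
    (Nat.card R).Coprime (Nat.card A) → ⁅R, A⁆ ≤ Cfsg.alphaCore H

theorem exists_mul_pow {S : Subgroup G} {s a : G} (hs : s ∈ S) (ha : a ∈ normalizer (S : Set G))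
    (k : ℕ) : ∃ t ∈ S, (s * a) ^ k = t * a ^ k := by
  induction k with
  | zero => exact ⟨1, one_mem _, by simp⟩
  | succ k ih =>
    obtain ⟨t, ht, h⟩ := ih
    refine ⟨t * (a ^ k * s * (a ^ k)⁻¹), mul_mem ht ?_, ?_⟩
    · exact (mem_normalizer_iff.mp (pow_mem ha k) s).mp hs
    · rw [pow_succ, h, pow_succ]; group

theorem mem_of_mem_sup_of_coprime [Finite G] {S A : Subgroup G} (hAS : A ≤ normalizer (S : Set G))
    {x : G} (hx : x ∈ S ⊔ A) (hcop : (orderOf x).Coprime (Nat.card A)) : x ∈ S := by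
  obtain ⟨s, hs, a, ha, rfl⟩ := (mem_sup_of_le_normalizer hAS).mp hx
  obtain ⟨t, ht, h⟩ := exists_mul_pow hs (hAS ha) (orderOf (s * a))
  rw [pow_orderOf_eq_one] at h
  have h1 : a ^ orderOf (s * a) ∈ S := by
    have : a ^ orderOf (s * a) = t⁻¹ := by
      rw [eq_inv_iff_mul_eq_one, mul_comm_of_eq_one h.symm]
    rw [this]; exact inv_mem ht
  have h2 : (orderOf (s * a)).Coprime (orderOf a) :=
    Nat.Coprime.coprime_dvd_right (Subgroup.orderOf_dvd_natCard A ha) hcop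
  obtain ⟨m, hm⟩ := exists_pow_eq_self_of_coprime h2
  exact mul_mem hs (hm ▸ pow_mem h1 m)
where
  mul_comm_of_eq_one {t b : G} (h : t * b = 1) : b * t = 1 := by
    have : b = t⁻¹ := (eq_inv_of_mul_eq_one_right h)
    rw [this]; group

theorem le_of_le_sup_of_coprime [Finite G] {S A R : Subgroup G} (hAS : A ≤ normalizer (S : Set G))
    (hR : R ≤ S ⊔ A) (hcop : (Nat.card R).Coprime (Nat.card A)) : R ≤ S := fun x hx =>
  mem_of_mem_sup_of_coprime hAS (hR hx)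
    (Nat.Coprime.coprime_dvd_left (Subgroup.orderOf_dvd_natCard R hx) hcop)

theorem isSylowIn_unique_of_nilpotent [Finite G] {N Q Q' : Subgroup G} {q : ℕ} [Fact q.Prime]
    (hN : Group.IsNilpotent N) (hQ : IsSylowIn q Q N) (hQ' : IsSylowIn q Q' N) : Q' = Q := by
  obtain ⟨P, hP⟩ := hQ.exists_sylow
  obtain ⟨P', hP'⟩ := hQ'.exists_sylow
  have hn : (P : Subgroup N).Normal :=
    Sylow.normal_of_normalizerCondition Group.normalizerCondition_of_isNilpotent P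
  have : Subsingleton (Sylow q N) := (Sylow.unique_of_normal P hn).instSubsingleton
  rw [← hP, ← hP', Subsingleton.elim P P']

/-- a Sylow subgroup of a nilpotent subgroup `N` is normalized by `N(N)`. -/
theorem normalizer_le_of_nilpotent [Finite G] {N Q : Subgroup G} {q : ℕ} [Fact q.Prime]
    (hN : Group.IsNilpotent N) (hQ : IsSylowIn q Q N) :
    normalizer (N : Set G) ≤ normalizer (Q : Set G) := by
  intro g hg
  apply mem_normalizer_of_cj_eq
  have h1 := hQ.cj g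
  rw [cj_eq_of_mem_normalizer hg] at h1
  exact isSylowIn_unique_of_nilpotent hN hQ h1

theorem commutator_le_of_normal {K A S : Subgroup G} (hK : K ≤ normalizer (S : Set G)) (hA : A ≤ S) :
    ⁅K, A⁆ ≤ S := by
  rw [commutator_le]
  intro k hk a ha
  rw [commutatorElement_def]
  exact mul_mem ((mem_normalizer_iff.mp (hK hk) a).mp (hA ha)) (inv_mem (hA ha))

theorem sigmaCore_le_commutator [Finite G] (hG : Cfsg.IsMinSimpleOddOrder G) {H : Subgroup G}
    (hH : IsCoatom H) : Cfsg.sigmaCore H ≤ ⁅H, H⁆ := by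
  apply le_of_forall_isSylowIn
  intro r _ hr
  obtain ⟨S, hS⟩ := exists_isSylowIn r (Cfsg.sigmaCore H)
  obtain ⟨S', hS', hSS'⟩ := exists_isSylowIn_ge (hS.le.trans (sigmaCore_le H)) hS.isPGroup
  have hrσ : r ∈ Cfsg.sigma H := (sigmaCore_hall hG hH).2.1 r Fact.out hr
  exact ⟨S, hS, hSS'.trans (sylow_le_commutator_of_mem_sigma hG (ut hG) hH hrσ hS')⟩

/-- B-G 12.2(b)-type statement. -/
theorem cj_eq_of_le_cj [Finite G] (hG : Cfsg.IsMinSimpleOddOrder G) {H : Subgroup G}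
    (hH : IsCoatom H) {p : ℕ} [Fact p.Prime] (hp : p ∈ Cfsg.sigma H) {X : Subgroup G}
    (hXp : IsPGroup p X) (hX1 : X ≠ ⊥) (hXH : X ≤ H) (hC : centralizer (X : Set G) ≤ H) {g : G}
    (hXg : X ≤ cj g H) : cj g H = H := by
  have h1 : cj g⁻¹ X ≤ H := cj_le_iff.mpr (by rwa [inv_inv])
  obtain ⟨m, hm, c, hc, hg⟩ := (Cfsg.Agent.S1404.result hG H hH p hp X hXp hX1 hXH).1 g⁻¹ h1
  have h2 : g⁻¹ ∈ H := hg ▸ mul_mem hm (hC hc)
  have h3 : g ∈ H := by simpa using inv_mem h2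
  exact cj_eq_of_mem h3

theorem isSylowIn_top_of_hall [Finite G] {N Q : Subgroup G} {q : ℕ} (hQ : IsSylowIn q Q N)
    (hq : q.Prime) (hN : ¬ q ∣ N.index) : IsSylowIn q Q ⊤ := by
  refine ⟨le_top, hQ.isPGroup, ?_⟩
  rw [relIndex_top_right, ← relIndex_mul_index hQ.le]
  intro h
  rcases (Nat.Prime.dvd_mul hq).mp h with h | h
  · exact hQ.not_dvd h
  · exact hN h

theorem mem_maxInv_of_sylow [Finite G] {A Q : Subgroup G} {q : ℕ} [Fact q.Prime]
    (hQ : IsSylowIn q Q ⊤) (hAQ : A ≤ normalizer (Q : Set G)) :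
    Q ∈ Cfsg.maxInvSubgroups ⊤ A {q} := by
  refine ⟨mem_invSubgroups_top_iff.mpr ⟨hQ.isPGroup, hAQ⟩, ?_⟩
  intro R hR hQR
  exact hQ.eq_of_le le_top (mem_invSubgroups_top_iff.mp hR).1 hQR

theorem transitivity_of_not_mem_sigma [Finite G] (hG : Cfsg.IsMinSimpleOddOrder G) {H : Subgroup G}
    (hH : IsCoatom H) {p : ℕ} [hp : Fact p.Prime] (hpH : p ∉ Cfsg.sigma H) {A : Subgroup G}
    (hAH : A ≤ H) (hA : Cfsg.IsElementaryAbelian p A) (hA2 : Nat.card A = p ^ 2) :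
    (∀ B : Subgroup G, Cfsg.IsElementaryAbelian p B → A ≤ B → B = A) ∧
      Cfsg.TransitivityHypothesis A := by
  have hp1 := hp.out.one_lt
  have hr1 : ¬ Cfsg.PRankLE p 1 H := by
    apply not_pRankLE_of_elementary hAH hA
    rw [hA2]
    exact Nat.pow_lt_pow_right hp1 (by norm_num)
  have hmax := (Cfsg.Agent.S1408.result hG H hH p hpH
    (pRankLE_two_of_not_mem_sigma hG hH hp.out hpH) hr1).2 A hAH hA hA2
  refine ⟨hmax, ?_⟩
  have hAp : IsPGroup p A := ea_isPGroup hA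
  have hA1 : A ≠ ⊥ := by
    rintro rfl
    rw [card_bot] at hA2
    have : 1 < p ^ 2 := Nat.one_lt_pow (by norm_num) hp1
    omega
  have hpG : p ∣ Nat.card G :=
    (dvd_card_of_isPGroup_ne_bot hAp hA1).trans (Subgroup.card_subgroup_dvd_card A)
  exact Cfsg.Agent.S1396.result hG p hpG A hAp hA.1
    (Or.inl ⟨Cfsg.Agent.Lib.Helper14.BG11.mem_of_max hA hmax,
      fun X hX => Cfsg.Agent.S1410.result hG p X hX⟩)

/-- the common core of B-G 12.3 (a) and (b). -/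
theorem core123 [Finite G] (hG : Cfsg.IsMinSimpleOddOrder G) (hE : Exc11 G) (h6 : T6 G) (h7 : T7 G)
    {M H : Subgroup G} (hM : IsCoatom M) (hH : IsCoatom H) (hne : H ≠ M) {p : ℕ} [hp : Fact p.Prime]
    {A A₀ : Subgroup G} (hAM : A ≤ M) (hA : Cfsg.IsElementaryAbelian p A) (hA2 : Nat.card A = p ^ 2)
    (hA₀ : A₀ ≤ A) (hc₀ : Nat.card A₀ = p) (hN : normalizer (A₀ : Set G) ≤ H) {N : Subgroup G}
    (hNM : N ≤ M) (hMN : M ≤ normalizer (N : Set G))
    (hNσ : ∀ q : ℕ, q.Prime → q ∣ Nat.card N → q ∈ Cfsg.sigma M)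
    (hNh : ∀ q : ℕ, q.Prime → q ∣ Nat.card N → ¬ q ∣ N.index) (hpN : ¬ p ∣ Nat.card N) :
    N ⊓ H ≤ centralizer (A : Set G) := by
  have hp1 := hp.out.one_lt
  have hAp : IsPGroup p A := ea_isPGroup hA
  have hCA₀ : centralizer (A₀ : Set G) ≤ H := (centralizer_le_normalizer _).trans hN
  have hCA : centralizer (A : Set G) ≤ H := (centralizer_le hA₀).trans hCA₀
  have hAH : A ≤ H := (ea_le_centralizer hA le_rfl).trans hCA
  have hA₀1 : A₀ ≠ ⊥ := by
    rintro rfl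
    rw [card_bot] at hc₀
    omega
  set K := N ⊓ H with hK
  have hAK : A ≤ normalizer (K : Set G) :=
    le_normalizer_inf (hAM.trans hMN) (hAH.trans le_normalizer)
  have hcopN : (Nat.card A).Coprime (Nat.card N) := by
    rw [hA2]
    exact Nat.Coprime.pow_left _ ((Nat.Prime.coprime_iff_not_dvd hp.out).mpr hpN)
  have hcopK : (Nat.card A).Coprime (Nat.card K) :=
    Nat.Coprime.coprime_dvd_right (card_dvd_of_le inf_le_left) hcopN
  have hsolA : Group.IsSolvable A := isSolvable_of_le hAM (solvable_of_ne_top hG hM.1)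
  set R := ⁅K, A⁆ with hR
  have hRK : R ≤ K := commutator_le_of_le_normalizer hAK
  have hRR : ⁅R, A⁆ = R := commutator_commutator_eq hAK hcopK (Or.inl hsolA)
  have hAR : A ≤ normalizer (R : Set G) := le_normalizer_commutator hAK le_normalizer
  have hcopR : (Nat.card A).Coprime (Nat.card R) :=
    Nat.Coprime.coprime_dvd_right (card_dvd_of_le hRK) hcopK
  suffices hR1 : R = ⊥ by
    rw [hR, commutator_eq_bot_iff_le_centralizer] at hR1
    exact hR1
  by_contra hR1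
  have hcR : Nat.card R ≠ 1 := fun h => hR1 (card_eq_one.mp h)
  obtain ⟨q, hq, hqR⟩ := Nat.exists_prime_and_dvd hcR
  have : Fact q.Prime := ⟨hq⟩
  have hqN : q ∣ Nat.card N := hqR.trans (card_dvd_of_le (hRK.trans inf_le_left))
  have hqM : q ∈ Cfsg.sigma M := hNσ q hq hqN
  by_cases hpH : p ∈ Cfsg.sigma H
  · have hAσ : A ≤ Cfsg.sigmaCore H := isPGroup_le_sigmaCore hG hH hpH hAH hAp
    have hRσ : R ≤ Cfsg.sigmaCore H :=
      commutator_le_of_normal (inf_le_right.trans (le_normalizer_sigmaCore H)) hAσ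
    have hσc := sigmaCore_le_commutator hG hH
    have h1 : R ≤ Cfsg.alphaCore H := by
      rw [← hRR]
      exact h7 hH (hRσ.trans hσc) (hAσ.trans hσc) hcopR.symm
    have hqα : q ∈ Cfsg.alpha H := by
      have h2 : q ∣ Nat.card (Cfsg.alphaCore H) := hqR.trans (card_dvd_of_le h1)
      exact (Cfsg.Agent.S1405.result hG H hH).1.2.1 q hq h2
    obtain ⟨g, hg⟩ := h6 hH hM hqα hqM
    have h3 := cj_eq_of_le_cj hG hH hpH (hAp.to_le hA₀) hA₀1 (hA₀.trans hAH) hCA₀ (g := g)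
      (hg ▸ hA₀.trans hAM)
    exact hne (h3.symm.trans hg.symm)
  · obtain ⟨hnil, hnorm⟩ := hE H hH p hpH A A₀ hAH hA hA2 hA₀ hc₀ hN
    obtain ⟨-, hTH⟩ := transitivity_of_not_mem_sigma hG hH hpH hAH hA hA2
    have hRS : R ≤ Cfsg.sigmaCore H ⊔ A :=
      commutator_le_of_normal (inf_le_right.trans hnorm) le_sup_right
    have hRσ : R ≤ Cfsg.sigmaCore H :=
      le_of_le_sup_of_coprime (hAH.trans (le_normalizer_sigmaCore H)) hRS hcopR.symm
    obtain ⟨Rq, hRq, hARq⟩ := exists_invariant_isSylowIn hAR hcopR (Or.inl hsolA) q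
    have hRq1 : Rq ≠ ⊥ := by
      rintro rfl
      apply hRq.not_dvd
      rwa [relIndex_bot_left]
    have hqH : q ∈ Cfsg.sigma H :=
      (sigmaCore_hall hG hH).2.1 q hq (hqR.trans (card_dvd_of_le hRσ))
    have hqp : q ≠ p := fun h => hpH (h ▸ hqH)
    have hqA : ¬ q ∣ Nat.card A := Cfsg.Agent.Lib.Helper2.BG96.not_dvd_card_pgroup hqp hAp
    obtain ⟨Q1, hQ1, hRQ1⟩ := exists_isSylowIn_ge
      ((hRq.le.trans hRσ).trans (sigmaCore_le H)) hRq.isPGroup
    have hQ1σ : Q1 ≤ Cfsg.sigmaCore H := isPGroup_le_sigmaCore hG hH hqH hQ1.le hQ1.isPGroup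
    have hQ1' : IsSylowIn q Q1 (Cfsg.sigmaCore H) := IsSylowIn_of_le hQ1 hQ1σ (sigmaCore_le H)
    have hHQ1 : H ≤ normalizer (Q1 : Set G) :=
      (le_normalizer_sigmaCore H).trans (normalizer_le_of_nilpotent hnil hQ1')
    have hQ1t : IsSylowIn q Q1 ⊤ :=
      isSylowIn_top_of_normalizer_le hQ1 (normalizer_le_of_mem_sigma hqH hQ1)
    obtain ⟨Q2, hQ2, hRQ2, hAQ2⟩ := exists_invariant_isSylowIn_ge (hAM.trans hMN) hcopN
      (Or.inl hsolA) q ((hRq.le.trans hRK).trans inf_le_left) hRq.isPGroup hARq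
    have hQ2t : IsSylowIn q Q2 ⊤ := isSylowIn_top_of_hall hQ2 hq (hNh q hq hqN)
    have hQ2M : IsSylowIn q Q2 M := IsSylowIn_of_le hQ2t (hQ2.le.trans hNM) le_top
    have hm1 := mem_maxInv_of_sylow hQ1t (hAH.trans hHQ1)
    have hm2 := mem_maxInv_of_sylow hQ2t hAQ2
    have hint : Q1 ⊓ Q2 ≠ ⊥ := fun h => hRq1 (le_bot_iff.mp (h ▸ le_inf hRQ1 hRQ2))
    obtain ⟨k, hk, hkQ⟩ := kconj_of_inf_ne_bot hG hTH hqA _ Q1 Q2 hm1 hm2 le_rfl hint
    have hkH : k ∈ H := hCA (transK_le_centralizer A hk)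
    rw [cj_eq_of_mem_normalizer (hHQ1 hkH)] at hkQ
    have h4 : H ≤ M := hHQ1.trans (hkQ ▸ normalizer_le_of_mem_sigma hqM hQ2M)
    exact hne (hH.le_iff_eq hM.1 |>.mp h4 |>.symm ▸ rfl)

/-- B-G Lemma 12.3. -/
theorem bg123 [Finite G] (hG : Cfsg.IsMinSimpleOddOrder G) (hE : Exc11 G) (h6 : T6 G) (h7 : T7 G)
    {M H : Subgroup G} (hM : IsCoatom M) (hH : IsCoatom H) (hne : H ≠ M) {p : ℕ} [hp : Fact p.Prime]
    {A A₀ : Subgroup G} (hAM : A ≤ M) (hA : Cfsg.IsElementaryAbelian p A) (hA2 : Nat.card A = p ^ 2)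
    (hA₀ : A₀ ≤ A) (hc₀ : Nat.card A₀ = p) (hN : normalizer (A₀ : Set G) ≤ H) :
    (p ∉ Cfsg.sigma M → Cfsg.sigmaCore M ⊓ H ≤ centralizer (A : Set G)) ∧
      (p ∉ Cfsg.alpha M → Cfsg.alphaCore M ⊓ H ≤ centralizer (A : Set G)) := by
  constructor
  · intro hpM
    have h50 := Cfsg.Agent.S1350.result hG M hM
    exact core123 hG hE h6 h7 hM hH hne hAM hA hA2 hA₀ hc₀ hN (sigmaCore_le M)
      (le_normalizer_sigmaCore M) h50.1.2.1 (fun q hq hd => h50.2.1.2 q hq (h50.1.2.1 q hq hd))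
      (fun hd => hpM (h50.1.2.1 p hp.out hd))
  · intro hpM
    have h05 := Cfsg.Agent.S1405.result hG M hM
    exact core123 hG hE h6 h7 hM hH hne hAM hA hA2 hA₀ hc₀ hN (alphaCore_le M)
      (Cfsg.Agent.Lib.Helper28.le_normalizer_map_subtype (Cfsg.piCore_normal _ _))
      (fun q hq hd => mem_sigma_of_mem_alpha hG (ut hG) hM (h05.1.2.1 q hq hd))
      (fun q hq hd => h05.2.1.2 q hq (h05.1.2.1 q hq hd))
      (fun hd => hpM (h05.1.2.1 p hp.out hd))

end Cfsg.Agent.Lib.Helper14.BG12
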