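import Cfsg.Agent.Lib.Helper14.BG12A

/-!
Bender-Glauberman Proposition 12.4 (statement S1416): assembly from Lemma 12.3 and the rungs
`P1`-`P5`.
-/

set_option autoImplicit false
set_option linter.unusedSectionVars false

namespace Cfsg.Agent.Lib.Helper14.BG12

open Subgroup Cfsg.Agent.Lib.Helper30 Cfsg.Agent.Lib.Helper2 Cfsg.Agent.Lib.Helper68
open Cfsg.Agent.Lib.Helper28.BG12

universe u

variable {G : Type u} [Group G]

/-- `N(A₀) ≤ M` and `M` is the only maximal subgroup containing `N(A₀)`. -/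
def NU (M A₀ : Subgroup G) : Prop :=
  normalizer (A₀ : Set G) ≤ M ∧ ∀ L : Subgroup G, IsCoatom L → normalizer (A₀ : Set G) ≤ L → L = M

def T1 (G : Type u) [Group G] : Prop :=
  ∀ {M : Subgroup G}, IsCoatom M → ∀ {p : ℕ} [Fact p.Prime], p ∈ Cfsg.alpha M → ∀ {A : Subgroup G},
    A ≤ M → Cfsg.IsElementaryAbelian p A → Nat.card A = p ^ 2 →
    ∃ A₀ : Subgroup G, A₀ ≤ A ∧ Nat.card A₀ = p ∧ normalizer (A₀ : Set G) ≤ M ∧
      ∀ L : Subgroup G, IsCoatom L → normalizer (A₀ : Set G) ≤ L → L = M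

def T2 (G : Type u) [Group G] : Prop :=
  ∀ {p : ℕ} [Fact p.Prime] {A K : Subgroup G}, Cfsg.IsElementaryAbelian p A → Nat.card A = p ^ 2 →
    A ≤ normalizer (K : Set G) → ¬ p ∣ Nat.card K →
    (∀ B₀ : Subgroup G, B₀ ≤ A → Nat.card B₀ = p →
      K ⊓ centralizer (B₀ : Set G) ≤ centralizer (A : Set G)) → K ≤ centralizer (A : Set G)

def T3 (G : Type u) [Group G] : Prop :=
  ∀ {M : Subgroup G}, IsCoatom M → Cfsg.alphaCore M = ⊥ →
    Cfsg.RankLE 2 M ∧ Group.IsNilpotent ↥⁅M, M⁆ ∧ Group.IsNilpotent ↥(Cfsg.sigmaCore M) ∧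
      Cfsg.sigmaCore M ≠ ⊥

def T4 (G : Type u) [Group G] : Prop :=
  ∀ {M : Subgroup G}, IsCoatom M → Group.IsNilpotent ↥⁅M, M⁆ → Cfsg.sigmaCore M ≠ ⊥ →
    ∀ {p : ℕ} [Fact p.Prime], Cfsg.PRankLE p 2 M → ∀ {A : Subgroup G}, A ≤ M →
    Cfsg.IsElementaryAbelian p A → Nat.card A = p ^ 2 →
    Cfsg.sigmaCore M ≤ centralizer (A : Set G) → p ∈ Cfsg.sigma M

def T5 (G : Type u) [Group G] : Prop :=
  ∀ {M : Subgroup G}, IsCoatom M → Group.IsNilpotent ↥⁅M, M⁆ → ∀ {p : ℕ} [Fact p.Prime],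
    p ∈ Cfsg.sigma M → Cfsg.PRankLE p 2 M → ∀ {A : Subgroup G}, A ≤ M →
    Cfsg.IsElementaryAbelian p A → Nat.card A = p ^ 2 →
    (∀ A₀ : Subgroup G, A₀ ≤ A → Nat.card A₀ = p →
      ¬ (normalizer (A₀ : Set G) ≤ M ∧
        ∀ L : Subgroup G, IsCoatom L → normalizer (A₀ : Set G) ≤ L → L = M)) →
    centralizer (A : Set G) ≤ M

/-- a `q`-subgroup of `M`, `q ∈ α(M)`, lies in `M_α`. -/
theorem isPGroup_le_alphaCore [Finite G] (hG : Cfsg.IsMinSimpleOddOrder G) {M : Subgroup G}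
    (hM : IsCoatom M) {q : ℕ} [Fact q.Prime] (hq : q ∈ Cfsg.alpha M) {X : Subgroup G} (hXM : X ≤ M)
    (hX : IsPGroup q X) : X ≤ Cfsg.alphaCore M := by
  have h05 := (Cfsg.Agent.S1405.result hG M hM).1
  have hn : M ≤ normalizer (Cfsg.alphaCore M : Set G) :=
    Cfsg.Agent.Lib.Helper28.le_normalizer_map_subtype (Cfsg.piCore_normal _ _)
  obtain ⟨S, hS⟩ := exists_isSylowIn q (Cfsg.alphaCore M)
  have hSM : IsSylowIn q S M := by
    refine ⟨hS.le.trans h05.1, hS.isPGroup, ?_⟩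
    rw [← relIndex_mul_relIndex S _ M hS.le h05.1]
    intro h
    rcases (Nat.Prime.dvd_mul Fact.out).mp h with h | h
    · exact hS.not_dvd h
    · exact h05.2.2 q Fact.out hq h
  obtain ⟨S', hS', hXS'⟩ := exists_isSylowIn_ge hXM hX
  obtain ⟨m, hm, rfl⟩ := hSM.conj hS'
  refine hXS'.trans ?_
  rw [← cj_eq_of_mem_normalizer (hn hm)]
  exact cj_mono m hS.le

/-- B-G Proposition 12.4. -/
theorem S1416_of [Finite G] (hG : Cfsg.IsMinSimpleOddOrder G) (hE : Exc11 G) (h1 : T1 G) (h2 : T2 G)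
    (h3 : T3 G) (h4 : T4 G) (h5 : T5 G) (h6 : T6 G) (h7 : T7 G)
    (M : Subgroup G) (hM : IsCoatom M) (p : ℕ) [hp : Fact p.Prime] (A : Subgroup G)
    (hA : (A ≤ M ∧ Cfsg.IsElementaryAbelian p A ∧ Nat.card A = p ^ 2)) :
    centralizer (A : Set G) ≤ M ∧
      ((∀ A₀ : Subgroup G, A₀ ≤ A → Nat.card A₀ = p →
          ¬ (normalizer (A₀ : Set G) ≤ M ∧
            ∀ L : Subgroup G, IsCoatom L → normalizer (A₀ : Set G) ≤ L → L = M)) →
        p ∈ Cfsg.sigma M ∧ Cfsg.alphaCore M = ⊥ ∧ Group.IsNilpotent (Cfsg.sigmaCore M)) := by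
  obtain ⟨hAM, hAe, hA2⟩ := hA
  have hp1 := hp.out.one_lt
  have hAp : IsPGroup p A := ea_isPGroup hAe
  by_cases hn : ∀ A₀ : Subgroup G, A₀ ≤ A → Nat.card A₀ = p →
      ¬ (normalizer (A₀ : Set G) ≤ M ∧
        ∀ L : Subgroup G, IsCoatom L → normalizer (A₀ : Set G) ≤ L → L = M)
  swap
  · refine ⟨?_, fun h => absurd h hn⟩
    push Not at hn
    obtain ⟨A₀, hA₀, -, hN, -⟩ := hn
    exact ((centralizer_le hA₀).trans (centralizer_le_normalizer _)).trans hN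
  have hpα : p ∉ Cfsg.alpha M := by
    intro h
    obtain ⟨A₀, hA₀, hc₀, hN, hu⟩ := h1 hM h hAM hAe hA2
    exact hn A₀ hA₀ hc₀ ⟨hN, hu⟩
  have hAtop : A ≠ ⊤ := fun h => hM.1 (top_le_iff.mp (h ▸ hAM))
  have hHB : ∀ B₀ : Subgroup G, B₀ ≤ A → Nat.card B₀ = p →
      ∃ H : Subgroup G, IsCoatom H ∧ H ≠ M ∧ normalizer (B₀ : Set G) ≤ H := by
    intro B₀ hB₀ hc₀
    by_contra hcon
    push Not at hcon
    have hB1 : B₀ ≠ ⊥ := by
      rintro rfl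
      rw [card_bot] at hc₀
      omega
    have hBtop : B₀ ≠ ⊤ := fun h => hAtop (top_le_iff.mp (h ▸ hB₀))
    obtain ⟨L, hL, hNL⟩ := exists_coatom_ge (normalizer_ne_top hG hB1 hBtop)
    have hu : ∀ L : Subgroup G, IsCoatom L → normalizer (B₀ : Set G) ≤ L → L = M := by
      intro L hL hNL
      by_contra hne
      exact hcon L hL hne hNL
    exact hn B₀ hB₀ hc₀ ⟨hu L hL hNL ▸ hNL, hu⟩
  have h05 := Cfsg.Agent.S1405.result hG M hM
  have h50 := Cfsg.Agent.S1350.result hG M hM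
  have hnα : M ≤ normalizer (Cfsg.alphaCore M : Set G) :=
    Cfsg.Agent.Lib.Helper28.le_normalizer_map_subtype (Cfsg.piCore_normal _ _)
  have hαc : Cfsg.alphaCore M ≤ centralizer (A : Set G) := by
    refine h2 hAe hA2 (hAM.trans hnα) (fun hd => hpα (h05.1.2.1 p hp.out hd)) ?_
    intro B₀ hB₀ hc₀
    obtain ⟨H, hH, hne, hNH⟩ := hHB B₀ hB₀ hc₀
    exact (inf_le_inf_left _ ((centralizer_le_normalizer _).trans hNH)).trans
      ((bg123 hG hE h6 h7 hM hH hne hAM hAe hA2 hB₀ hc₀ hNH).2 hpα)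
  obtain ⟨A₁, hA₁, hcA₁⟩ := Cfsg.Agent.Lib.Helper58.BG9.exists_le_card_eq (k := 1) hAp
    (by rw [hA2]; exact Nat.pow_le_pow_right hp.out.pos (by norm_num))
  rw [pow_one] at hcA₁
  have hα : Cfsg.alphaCore M = ⊥ := by
    by_contra hα1
    have hc1 : Nat.card (Cfsg.alphaCore M) ≠ 1 := fun h => hα1 (card_eq_one.mp h)
    obtain ⟨q, hq, hqd⟩ := Nat.exists_prime_and_dvd hc1
    have : Fact q.Prime := ⟨hq⟩
    have hqα : q ∈ Cfsg.alpha M := h05.1.2.1 q hq hqd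
    obtain ⟨E, hEM, hEe, hEc⟩ := exists_elementary_of_not_pRankLE hqα.2
    have hEα : E ≤ Cfsg.alphaCore M := isPGroup_le_alphaCore hG hM hqα hEM (ea_isPGroup hEe)
    have hr : ¬ Cfsg.RankLE 2 (centralizer (A : Set G)) :=
      not_rankLE_of_elementary hq (hEα.trans hαc) hEe hEc
    have hr1 : ¬ Cfsg.RankLE 1 A :=
      Cfsg.Agent.Lib.Helper58.BG9.not_rankLE_one_of_elementary le_rfl hAe hA2.ge
    have hu := Cfsg.Agent.S1403.result hG A hAtop hr1 (Or.inr hr)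
    have hAN : A ≤ normalizer (A₁ : Set G) :=
      (ea_le_centralizer hAe hA₁).trans (centralizer_le_normalizer _)
    have hA₁1 : A₁ ≠ ⊥ := by
      rintro rfl
      rw [card_bot] at hcA₁
      omega
    have hA₁top : A₁ ≠ ⊤ := fun h => hAtop (top_le_iff.mp (h ▸ hA₁))
    refine hn A₁ hA₁ hcA₁ ⟨uniq_le hu hM hAM hAN (normalizer_ne_top hG hA₁1 hA₁top), ?_⟩
    intro L hL hNL
    exact uniq_eq hu hM hAM hL (hAN.trans hNL)
  obtain ⟨hr2, hnil, hnilσ, hσ1⟩ := h3 hM hα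
  have hrp : Cfsg.PRankLE p 2 M := hr2 p hp.out
  have hpσ : p ∈ Cfsg.sigma M := by
    by_contra hpσ
    apply hpσ
    refine h4 hM hnil hσ1 hrp hAM hAe hA2 ?_
    refine h2 hAe hA2 (hAM.trans (le_normalizer_sigmaCore M))
      (fun hd => hpσ (h50.1.2.1 p hp.out hd)) ?_
    intro B₀ hB₀ hc₀
    obtain ⟨H, hH, hne, hNH⟩ := hHB B₀ hB₀ hc₀
    exact (inf_le_inf_left _ ((centralizer_le_normalizer _).trans hNH)).trans
      ((bg123 hG hE h6 h7 hM hH hne hAM hAe hA2 hB₀ hc₀ hNH).1 hpσ)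
  exact ⟨h5 hM hnil hpσ hrp hAM hAe hA2 hn, fun _ => ⟨hpσ, hα, hnilσ⟩⟩

end Cfsg.Agent.Lib.Helper14.BG12
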