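import Cfsg.Agent.Lib.Helper14.BG13Defs
import Cfsg.Agent.S1427

/-!
B-G section 13: shared lemmas (general Lemma K, "13.5", `E = E₁E'` when `τ₂(M) = ∅`).
-/

set_option autoImplicit false
set_option linter.style.haveILetI false

namespace Cfsg.Agent.Lib.Helper14.BG13

open Subgroup Cfsg.Agent.Lib.Helper30 Cfsg.Agent.Lib.Helper2 Cfsg.Agent.Lib.Helper68
  Cfsg.Agent.Lib.Helper28.BG12 Cfsg.Agent.Lib.Helper27.BG14
open scoped commutatorElement

universe u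

variable {G : Type u} [Group G]

/-- Lemma K without the hypothesis `Y ≤ L'`. -/
theorem lemmaK' [Finite G] (hG : Cfsg.IsMinSimpleOddOrder G) {L : Subgroup G} (hL : IsCoatom L)
    {q : ℕ} [hq : Fact q.Prime] (hqβ : q ∉ Cfsg.beta L) {Y P : Subgroup G} (hY : IsPGroup q Y)
    (hYL : Y ≤ L) (hPL : P ≤ ⁅L, L⁆) (hPq : (Nat.card P).Coprime q)
    (hPY : P ≤ normalizer (Y : Set G)) : P ≤ centralizer (Y : Set G) := by
  by_cases hY1 : Y = ⊥
  · rw [hY1]; intro x _; rw [mem_centralizer_iff]; intro y hy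
    have : y = 1 := hy
    rw [this, one_mul, mul_one]
  have hLL : ⁅L, L⁆ ≤ L := commutator_le_self L
  have hqL : q ∣ Nat.card L := (dvd_card_of_isPGroup_ne_bot hY hY1).trans (card_dvd_of_le hYL)
  obtain ⟨S, N, hN, hc⟩ := ((Cfsg.Agent.S1414.result hG L hL).2.2.2.2 q hq.out hqL hqβ).1
  have hidx : N.index = Nat.card S := hc.symm.index_eq_card
  have hNcop : (Nat.card N).Coprime q := by
    rw [← hc.index_eq_card, Nat.coprime_comm, hq.out.coprime_iff_not_dvd]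
    exact S.not_dvd_index
  obtain ⟨k, hk⟩ := (IsPGroup.iff_card.mp S.isPGroup')
  have hmem : ∀ x (hx : x ∈ ⁅L, L⁆), (orderOf x).Coprime q → (⟨x, hx⟩ : ↥⁅L, L⁆) ∈ N := by
    intro x hx hxq
    apply Cfsg.Agent.Lib.Helper40.BG12.mem_of_normal_of_coprime
    rw [hidx, hk]
    apply Nat.Coprime.pow_right
    have h1 : orderOf (⟨x, hx⟩ : ↥⁅L, L⁆) = orderOf x := by
      rw [← Subgroup.orderOf_coe]
    rw [h1]
    exact hxq
  have hord : ∀ x ∈ P, (orderOf x).Coprime q := by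
    intro x hx
    have h2 : orderOf x ∣ Nat.card P := by
      have := orderOf_dvd_natCard (⟨x, hx⟩ : P)
      rwa [← Subgroup.orderOf_coe] at this
    exact Nat.Coprime.coprime_dvd_left h2 hPq
  have hnorm : ∀ y ∈ L, ∀ x ∈ ⁅L, L⁆, y * x * y⁻¹ ∈ ⁅L, L⁆ := by
    intro y hy x hx
    have h1 : L ≤ normalizer ((⁅L, L⁆ : Subgroup G) : Set G) :=
      le_normalizer_commutator le_normalizer le_normalizer
    exact ((mem_normalizer_iff.mp (h1 hy)) x).mp hx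
  intro x hx
  rw [mem_centralizer_iff]
  intro y hy
  have hy' : y ∈ Y := hy
  have hxy : x * y * x⁻¹ ∈ Y := ((mem_normalizer_iff.mp (hPY hx)) y).mp hy'
  have hcY : x * y * x⁻¹ * y⁻¹ ∈ Y := Y.mul_mem hxy (Y.inv_mem hy')
  have hx2 : y * x⁻¹ * y⁻¹ ∈ ⁅L, L⁆ := hnorm y (hYL hy') _ (inv_mem (hPL hx))
  have hx2o : (orderOf (y * x⁻¹ * y⁻¹)).Coprime q := by
    have : orderOf (y * x⁻¹ * y⁻¹) = orderOf x := by
      rw [← orderOf_inv x]
      exact MulEquiv.orderOf_eq (MulAut.conj y) x⁻¹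
    rw [this]; exact hord x hx
  have hcL : x * y * x⁻¹ * y⁻¹ ∈ ⁅L, L⁆ := by
    have := mul_mem (hPL hx) hx2
    simpa [mul_assoc] using this
  have hcN : (⟨x * y * x⁻¹ * y⁻¹, hcL⟩ : ↥⁅L, L⁆) ∈ N := by
    have h3 := N.mul_mem (hmem x (hPL hx) (hord x hx)) (hmem _ hx2 hx2o)
    convert h3 using 1
    apply Subtype.ext
    simp [mul_assoc]
  have h1 : x * y * x⁻¹ * y⁻¹ = 1 := by
    rw [← orderOf_eq_one_iff]
    have ha : orderOf (x * y * x⁻¹ * y⁻¹) ∣ Nat.card N := by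
      have := orderOf_dvd_natCard (⟨⟨x * y * x⁻¹ * y⁻¹, hcL⟩, hcN⟩ : N)
      rwa [← Subgroup.orderOf_coe, ← Subgroup.orderOf_coe] at this
    obtain ⟨m, hm⟩ := hY ⟨_, hcY⟩
    have hb : orderOf (x * y * x⁻¹ * y⁻¹) ∣ q ^ m := by
      apply orderOf_dvd_of_pow_eq_one
      simpa using congrArg Subtype.val hm
    exact Nat.eq_one_of_dvd_coprimes (Nat.Coprime.pow_right m hNcop) ha hb
  have h2 : x * y = y * x := by
    have := congrArg (· * y * x) h1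
    simpa [mul_assoc] using this
  exact h2.symm

/-- the primes of `M` outside `σ(M)`. -/
theorem tau_cases [Finite G] (hG : Cfsg.IsMinSimpleOddOrder G) {M : Subgroup G} (hM : IsCoatom M)
    {r : ℕ} (hr : r.Prime) (hrM : r ∣ Nat.card M) (hrσ : r ∉ Cfsg.sigma M) :
    r ∈ Cfsg.tau1 M ∨ r ∈ Cfsg.tau2 M ∨ r ∈ Cfsg.tau3 M := by
  by_cases h1 : Cfsg.PRankLE r 1 M
  · by_cases h2 : r ∣ Nat.card ↥⁅M, M⁆
    · exact Or.inr (Or.inr ⟨hr, hrσ, h2, h1⟩)
    · exact Or.inl ⟨hr, hrσ, hrM, h2, h1⟩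
  · exact Or.inr (Or.inl ⟨hr, hrσ, pRankLE_two_of_not_mem_sigma hG hM hr hrσ, h1⟩)

/-- a Sylow subgroup of a Hall subgroup. -/
theorem isSylowIn_of_hall [Finite G] {π : Set ℕ} {K E S : Subgroup G} {r : ℕ} [Fact r.Prime]
    (hK : Cfsg.IsPiHallOf π K E) (hr : r ∈ π) (hS : IsSylowIn r S K) : IsSylowIn r S E := by
  refine ⟨hS.le.trans hK.1, hS.isPGroup, ?_⟩
  rw [← relIndex_mul_relIndex S K E hS.le hK.1]
  intro h
  rcases (Nat.Prime.dvd_mul Fact.out).mp h with h | h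
  · exact hS.not_dvd h
  · exact hK.2.2 r Fact.out hr h

/-- B-G 13.5 (half): `C_{M_σ}(P) ≤ C(E₁)` for `P ≤ E₁` of prime order. -/
theorem cent_E1 [Finite G] (hG : Cfsg.IsMinSimpleOddOrder G) (h28 : T1428 G) {M E : Subgroup G}
    (hM : IsCoatom M) (hE : Cfsg.IsComplIn E (Cfsg.sigmaCore M) M) {E1 : Subgroup G}
    (hE1 : Cfsg.IsPiHallOf (Cfsg.tau1 M) E1 E) {P : Subgroup G} (hPE1 : P ≤ E1)
    (hP : (Nat.card P).Prime) :
    Cfsg.sigmaCore M ⊓ centralizer (P : Set G) ≤ centralizer (E1 : Set G) := by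
  have hE1c : IsCyclic E1 := (Cfsg.Agent.S1415.result hG M hM E hE).2.1 E1 hE1
  have hcomm : ∀ a ∈ E1, ∀ b ∈ E1, a * b = b * a := fun a ha b hb =>
    congrArg Subtype.val (comm_of_isCyclic hE1c ⟨a, ha⟩ ⟨b, hb⟩)
  rw [le_centralizer_iff]
  apply le_of_forall_isSylowIn
  intro r _ hrK
  obtain ⟨S, hS⟩ := exists_isSylowIn r E1
  refine ⟨S, hS, ?_⟩
  have hSE : IsSylowIn r S E := isSylowIn_of_hall hE1 (hE1.2.1 r Fact.out hrK) hS
  obtain ⟨P', hP'⟩ := hSE.exists_sylow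
  have hS1 : S ≠ ⊥ := Cfsg.Agent.Lib.Helper58.BG13.ne_bot_of_isSylowIn_of_dvd hS hrK
  have hP'1 : (P' : Subgroup E) ≠ ⊥ := by
    intro h
    apply hS1
    rw [← hP', h, Subgroup.map_bot]
  have hP'c : IsCyclic (P' : Subgroup E) := by
    have hcS : IsCyclic S := Subgroup.isCyclic_of_le hS.le
    have hc2 : IsCyclic ((P' : Subgroup E).map E.subtype) := hP'.symm ▸ hcS
    exact isCyclic_of_injective
      ((P' : Subgroup E).equivMapOfInjective E.subtype E.subtype_injective).toMonoidHom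
      ((P' : Subgroup E).equivMapOfInjective E.subtype E.subtype_injective).injective
  obtain ⟨x, hxS, hx1⟩ := exists_ne_one_of_ne_bot hS1
  obtain ⟨y, hy, hyp⟩ := exists_prime_order_mem_zpowers hx1
  have hyS : y ∈ S := (zpowers_le.mpr hxS) hy
  have hy1 : y ≠ 1 := by
    rintro rfl
    rw [orderOf_one] at hyp
    exact Nat.not_prime_one hyp
  have h1 := Cfsg.Agent.S1427.result hG M hM E hE r P' hP'1 hP'c y (hP'.symm ▸ hyS) hy1
  rw [hP'] at h1
  have h2 := h28 M hM E hE _ (hE1.2.1 _ hP (card_dvd_of_le hPE1)) P (hPE1.trans hE1.1) rfl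
    (zpowers y) (le_inf (zpowers_le.mpr (hSE.le hyS)) (by
      rw [zpowers_le, mem_centralizer_iff]
      intro a ha
      exact hcomm a (hPE1 ha) y (hS.le hyS))) (by rwa [Nat.card_zpowers])
  rw [Cfsg.Agent.Lib.Helper27.BG14.centralizer_zpowers_eq, h1] at h2
  rw [le_centralizer_iff]
  exact h2.trans inf_le_right

/-- if no prime of `τ₂(M)` divides `#E`, then `E = E₁E'`. -/
theorem compl_le_sup [Finite G] (hG : Cfsg.IsMinSimpleOddOrder G) {M E : Subgroup G}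
    (hM : IsCoatom M) (hE : Cfsg.IsComplIn E (Cfsg.sigmaCore M) M) {E1 : Subgroup G}
    (hE1 : Cfsg.IsPiHallOf (Cfsg.tau1 M) E1 E) (h2 : Cfsg.tau2 M = ∅) : E ≤ E1 ⊔ ⁅E, E⁆ := by
  have hsolE : Group.IsSolvable E := isSolvable_of_le hE.1 (solvable_of_ne_top hG hM.1)
  obtain ⟨E3, hE3⟩ := Cfsg.Agent.Lib.Helper66.exists_isPiHallOf (Cfsg.tau3 M) E hsolE
  have hE3' := ((Cfsg.Agent.S1415.result hG M hM E hE).2.2 E3 hE3).2.1
  apply le_of_forall_isSylowIn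
  intro r hr hrE
  have hrσ := not_mem_sigma_of_dvd_compl hG hM hE hr.out hrE
  rcases tau_cases hG hM hr.out (hrE.trans (card_dvd_of_le hE.1)) hrσ with h | h | h
  · obtain ⟨S, hS⟩ := exists_isSylowIn r E1
    exact ⟨S, isSylowIn_of_hall hE1 h hS, hS.le.trans le_sup_left⟩
  · rw [h2] at h; exact absurd h (Set.notMem_empty r)
  · obtain ⟨S, hS⟩ := exists_isSylowIn r E3
    exact ⟨S, isSylowIn_of_hall hE3 h hS, (hS.le.trans hE3').trans le_sup_right⟩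

/-- `τ₂(M) = ∅`, `S ≤ M_σ` centralized by `E'`: `C_S(P) ≤ (M_σ)'`. -/
theorem cent_le_commutator [Finite G] (hG : Cfsg.IsMinSimpleOddOrder G) (h28 : T1428 G)
    {M E : Subgroup G} (hM : IsCoatom M) (hE : Cfsg.IsComplIn E (Cfsg.sigmaCore M) M)
    (h2 : Cfsg.tau2 M = ∅) {p : ℕ} (hp : p ∈ Cfsg.tau1 M) {P : Subgroup G} (hPE : P ≤ E)
    (hP : Nat.card P = p) {S : Subgroup G} (hS : S ≤ Cfsg.sigmaCore M)
    (hSE : ⁅E, E⁆ ≤ centralizer (S : Set G)) :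
    S ⊓ centralizer (P : Set G) ≤ ⁅Cfsg.sigmaCore M, Cfsg.sigmaCore M⁆ := by
  have hsolE : Group.IsSolvable E := isSolvable_of_le hE.1 (solvable_of_ne_top hG hM.1)
  obtain ⟨E1, hE1, -, hPE1⟩ := Cfsg.Agent.Lib.Helper66.exists_invariant_isPiHallOf_ge
    (π := Cfsg.tau1 M) (A := ⊥) (G := E) (U := P) bot_le (by simp) hsolE hPE bot_le
    (fun q hq hqd => by
      rw [hP] at hqd
      rw [(Nat.prime_dvd_prime_iff_eq hq hp.1).mp hqd]; exact hp)
  have h1 := cent_E1 hG h28 hM hE hE1 hPE1 (hP ▸ hp.1)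
  refine le_trans ?_ (Cfsg.Agent.Lib.Helper31.bg1217_ab hG hM hE).1
  refine le_inf (inf_le_left.trans hS) ?_
  have h3 : E1 ⊔ ⁅E, E⁆ ≤ centralizer ((S ⊓ centralizer (P : Set G) : Subgroup G) : Set G) := by
    apply sup_le
    · rw [le_centralizer_iff]
      exact (inf_le_inf_right _ hS).trans h1
    · exact hSE.trans (centralizer_le (SetLike.coe_subset_coe.2 inf_le_left))
  rw [le_centralizer_iff]
  exact (compl_le_sup hG hM hE hE1 h2).trans h3

end Cfsg.Agent.Lib.Helper14.BG13
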