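import Cfsg.Agent.Lib.Helper27.BG14c

/-!
B-G section 13: the Prop `G1` (= Theorem 13.10(b), contrapositive) used for `P11`.
-/

set_option autoImplicit false

namespace Cfsg.Agent.Lib.Helper14.BG13

open Subgroup

universe u

/-- text of S1378, part 2 (sigma-partition). -/
def T1378 (G : Type u) [Group G] : Prop :=
  ∀ M N : Subgroup G, IsCoatom M → IsCoatom N → (Cfsg.sigma M ∩ Cfsg.sigma N).Nonempty →
    ∃ g : G, N = M.map (MulAut.conj g).toMonoidHom

/-- B-G Theorem 13.10(b), contrapositive: if `X ≤ E` of order `p ∈ τ₃(M)` has a nontrivial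
centralizer in `M_σ`, every subgroup of `E` of order `r ∈ τ₁(M)` centralizes `X`. -/
def G1 (G : Type u) [Group G] : Prop :=
  ∀ (M : Subgroup G), IsCoatom M → ∀ (E : Subgroup G), Cfsg.IsComplIn E (Cfsg.sigmaCore M) M →
    ∀ (p : ℕ), p ∈ Cfsg.tau3 M → ∀ (X : Subgroup G), X ≤ E → Nat.card X = p →
    Cfsg.sigmaCore M ⊓ centralizer (X : Set G) ≠ ⊥ →
    ∀ (r : ℕ), r ∈ Cfsg.tau1 M → ∀ (P : Subgroup G), P ≤ E → Nat.card P = r →
      P ≤ centralizer (X : Set G)

end Cfsg.Agent.Lib.Helper14.BG13
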