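import Cfsg.Agent.Lib.Helper14.BG13A
import Cfsg.Agent.Lib.Helper14.BG12A
import Cfsg.Agent.Lib.Helper98.BG152FH1
import Cfsg.Agent.Lib.Helper40.BG16d
import Cfsg.Agent.Lib.Helper29.Cores
import Cfsg.Agent.Lib.Helper12.KW0

/-!
B-G section 16: Types III and IV (statement S1382), from the texts of lower statements.
-/

set_option autoImplicit false
set_option linter.style.haveILetI false

namespace Cfsg.Agent.Lib.Helper14.BG16

open Subgroup Cfsg.Agent.Lib.Helper30 Cfsg.Agent.Lib.Helper2 Cfsg.Agent.Lib.Helper68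
  Cfsg.Agent.Lib.Helper28.BG12 Cfsg.Agent.Lib.Helper14.BG13
open scoped commutatorElement

universe u

variable {G : Type u} [Group G]

/-- two commuting cyclic subgroups of coprime orders generate a cyclic subgroup. -/
theorem isCyclic_sup_of_coprime [Finite G] {K L : Subgroup G} (hK : IsCyclic K) (hL : IsCyclic L)
    (hcomm : ∀ a ∈ K, ∀ b ∈ L, a * b = b * a) (hcop : (Nat.card K).Coprime (Nat.card L)) :
    IsCyclic ↥(K ⊔ L) := by
  obtain ⟨a, ha⟩ := hK.exists_generator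
  obtain ⟨b, hb⟩ := hL.exists_generator
  have hoa : orderOf (a : G) = Nat.card K := by
    rw [Subgroup.orderOf_coe]; exact orderOf_eq_card_of_forall_mem_zpowers ha
  have hob : orderOf (b : G) = Nat.card L := by
    rw [Subgroup.orderOf_coe]; exact orderOf_eq_card_of_forall_mem_zpowers hb
  have hab : Commute (a : G) (b : G) := hcomm a a.2 b b.2
  have ho : orderOf ((a : G) * b) = Nat.card K * Nat.card L := by
    rw [hab.orderOf_mul_eq_mul_orderOf_of_coprime (by rw [hoa, hob]; exact hcop), hoa, hob]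
  have hKL : K ≤ normalizer (L : Set G) := by
    have : K ≤ centralizer (L : Set G) := by
      intro x hx
      rw [mem_centralizer_iff]
      intro y hy
      exact (hcomm x hx y hy).symm
    exact this.trans (centralizer_le_normalizer _)
  have hinf : K ⊓ L = ⊥ := (disjoint_of_coprime_natCard hcop).eq_bot
  have hcard : Nat.card (K ⊔ L : Subgroup G) = Nat.card K * Nat.card L := by
    have := Cfsg.Agent.Lib.Helper12.card_sup_mul_card_inf' K L hKL
    rwa [hinf, card_bot, mul_one] at this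
  have hmem : (a : G) * b ∈ K ⊔ L := mul_mem (le_sup_left (b := L) a.2) (le_sup_right (a := K) b.2)
  apply isCyclic_of_orderOf_eq_card (⟨(a : G) * b, hmem⟩ : ↥(K ⊔ L))
  rw [← Subgroup.orderOf_coe, ho, hcard]

/-- `M_F` is a Hall subgroup of `M_σ`. -/
theorem fittingHallOf_hall [Finite G] (hG : Cfsg.IsMinSimpleOddOrder G) {M : Subgroup G}
    (hM : IsCoatom M) :
    Cfsg.IsPiHallOf {r | r ∣ Nat.card (Cfsg.fittingHallOf M)} (Cfsg.fittingHallOf M)
      (Cfsg.sigmaCore M) := by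
  have hle := Cfsg.Agent.Lib.Helper98.BG152.fittingHallOf_le_sigmaCore hG hM
  refine ⟨hle, fun p _ h => h, fun p hp hpπ hd => ?_⟩
  have h1 := Cfsg.Agent.Lib.Helper29.card_fittingHall_coprime_index (G := M)
  rw [← Cfsg.Agent.Lib.Helper29.card_fittingHallOf] at h1
  have h2 : (Cfsg.fittingHallOf M).relIndex M = (Cfsg.fittingHall M).index := by
    unfold Cfsg.fittingHallOf
    rw [relIndex, subgroupOf, comap_map_eq_self_of_injective M.subtype_injective]
  have h3 : p ∣ (Cfsg.fittingHall M).index := by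
    rw [← h2, ← relIndex_mul_relIndex _ _ _ hle (sigmaCore_le M)]
    exact Dvd.dvd.mul_right hd _
  exact hp.one_lt.ne' (Nat.eq_one_of_dvd_coprimes h1 hpπ h3)

/-- the direction `⇐` of S1382. -/
theorem type_of [Finite G] (hG : Cfsg.IsMinSimpleOddOrder G) {M K Ks Q : Subgroup G} {q : ℕ}
    [hq : Fact q.Prime] (hM : IsCoatom M) (hKc : IsCyclic K)
    (hKH : Cfsg.IsPiHallOf (Cfsg.kappa M) K M) (hK1 : K ≠ ⊥)
    (hMK : M ≤ K ⊔ Cfsg.sigmaCore M)
    (hne : Cfsg.fittingHallOf M ≠ Cfsg.sigmaCore M)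
    (hKs : Ks = Cfsg.sigmaCore M ⊓ centralizer (K : Set G))
    (hMs : Cfsg.sigmaCore M = ⁅M, M⁆) (hKp : (Nat.card K).Prime) (hKsq : Nat.card Ks = q)
    (hqF : q ∣ Nat.card (Cfsg.fittingHallOf M)) (hqβ : q ∈ Cfsg.beta M)
    (hQF : Q ≤ Cfsg.fittingHallOf M) (hMQ : M ≤ normalizer (Q : Set G)) (hQq : IsPGroup q Q)
    (hQi : ¬ q ∣ Q.relIndex (Cfsg.sigmaCore M))
    (hD : ∀ D : Subgroup G, Cfsg.IsComplIn Q D (Cfsg.sigmaCore M) → Group.IsNilpotent D)
    (h56a : ⁅⁅M, M⁆, ⁅M, M⁆⁆ ≤ Cfsg.fittingOf M)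
    (h56b : Cfsg.fittingOf M =
      (M ⊓ centralizer (Cfsg.fittingHallOf M : Set G)) ⊔ Cfsg.fittingHallOf M)
    (h56c : Cfsg.fittingOf M ≤ ⁅M, M⁆)
    (h57 : Cfsg.IsTISubset (Cfsg.fittingOf M : Set G))
    (h70a : Cfsg.IsTISubset ((↑(K ⊔ Ks) : Set G) \ ((K : Set G) ∪ ↑Ks)))
    (h70b : normalizer ((↑(K ⊔ Ks) : Set G) \ ((K : Set G) ∪ ↑Ks)) = K ⊔ Ks)
    (h30 : ∀ k ∈ K, k ≠ 1 → Cfsg.sigmaCore M ⊓ centralizer ({k} : Set G) = Ks) :
    Cfsg.IsOfTypeIII M ∨ Cfsg.IsOfTypeIV M := by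
  have hMsH := sigmaCore_hall hG hM
  have hFle := Cfsg.Agent.Lib.Helper98.BG152.fittingHallOf_le_sigmaCore hG hM
  have hFH := fittingHallOf_hall hG hM
  have hsolv : Group.IsSolvable (Cfsg.sigmaCore M) :=
    solvable_of_ne_top hG (ne_top_of_le_ne_top hM.1 (sigmaCore_le M))
  have hKN : K ≤ normalizer (Cfsg.sigmaCore M : Set G) := hKH.1.trans (le_normalizer_sigmaCore M)
  have hcopK : (Nat.card K).Coprime (Nat.card (Cfsg.sigmaCore M)) :=
    Nat.coprime_of_dvd (fun p hp h1 h2 => (hKH.2.1 p hp h1).2.2.1 (hMsH.2.1 p hp h2))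
  have hKMs : K ⊓ Cfsg.sigmaCore M = ⊥ := (disjoint_of_coprime_natCard hcopK).eq_bot
  -- K is a complement of M_σ
  have hE : Cfsg.IsComplIn K (Cfsg.sigmaCore M) M := by
    refine Cfsg.Agent.Lib.Helper31.isComplIn_symm ⟨sigmaCore_le M, hKH.1, by rwa [inf_comm], ?_⟩
    intro m hm
    have h1 : m ∈ Cfsg.sigmaCore M ⊔ K := by rw [sup_comm]; exact hMK hm
    exact (mem_sup_of_le_normalizer hKN).mp h1
  have hKsle : Ks ≤ Cfsg.sigmaCore M := hKs ▸ inf_le_left
  have hKsC : ∀ a ∈ K, ∀ b ∈ Ks, a * b = b * a := by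
    intro a ha b hb
    rw [hKs] at hb
    exact mem_centralizer_iff.mp (mem_inf.mp hb).2 a ha
  have hKs1 : Ks ≠ ⊥ := by
    intro h
    rw [h, card_bot] at hKsq
    exact hq.out.one_lt.ne hKsq
  have hKsp : IsPGroup q Ks := IsPGroup.of_card (n := 1) (by rw [hKsq, pow_one])
  have hqσ : q ∈ Cfsg.sigma M :=
    hMsH.2.1 q hq.out (hKsq ▸ card_dvd_of_le hKsle)
  -- Q is the normal Sylow q-subgroup
  have hQS : IsSylowIn q Q (Cfsg.sigmaCore M) := ⟨hQF.trans hFle, hQq, hQi⟩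
  have hQM : IsSylowIn q Q M := isSylowIn_of_hall hMsH hqσ hQS
  have hle_Q : ∀ X : Subgroup G, X ≤ M → IsPGroup q X → X ≤ Q := by
    intro X hXM hX
    obtain ⟨P, hP, hXP⟩ := exists_isSylowIn_ge hXM hX
    obtain ⟨m, hm, rfl⟩ := hQM.conj hP
    rwa [cj_eq_of_mem_normalizer (hMQ hm)] at hXP
  -- the complement U of M_F
  obtain ⟨Ut, hUt, hKUt, -⟩ := Cfsg.Agent.Lib.Helper66.exists_invariant_isPiHallOf_ge
    (π := {r | r ∣ Nat.card (Cfsg.fittingHallOf M)}ᶜ) (A := K) (G := Cfsg.sigmaCore M) (U := ⊥)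
    hKN hcopK hsolv bot_le
    (le_top.trans (normalizer_eq_top_iff.mpr (inferInstance : (⊥ : Subgroup G).Normal)).ge)
    (fun p hp h => by rw [card_bot] at h; exact absurd (Nat.dvd_one.mp h) hp.one_lt.ne')
  have hcompl : Cfsg.IsComplIn (Cfsg.fittingHallOf M) Ut (Cfsg.sigmaCore M) :=
    Cfsg.Agent.Lib.Helper31.isComplIn_symm
      (Cfsg.Agent.Lib.Helper28.BG12.isComplIn_of_hall_compl hFH hUt)
  have hUt1 : Ut ≠ ⊥ := by
    rintro rfl
    apply hne
    apply le_antisymm hFle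
    intro m hm
    obtain ⟨a, ha, b, hb, rfl⟩ := hcompl.2.2.2 m hm
    rw [mem_bot] at hb
    rw [hb, mul_one]; exact ha
  -- nilpotent
  have hUtnil : Group.IsNilpotent Ut := by
    obtain ⟨D, hDH, -, hUtD⟩ := Cfsg.Agent.Lib.Helper66.exists_invariant_isPiHallOf_ge
      (π := ({q} : Set ℕ)ᶜ) (A := ⊥) (G := Cfsg.sigmaCore M) (U := Ut)
      bot_le (by simp) hsolv hUt.1 bot_le (fun r hr hrd hrq => by
        rw [Set.mem_singleton_iff] at hrq
        subst hrq
        exact hUt.2.1 r hr hrd hqF)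
    have hQH : Cfsg.IsPiHallOf ({q} : Set ℕ) Q (Cfsg.sigmaCore M) := by
      refine ⟨hQS.le, fun r hr hrd => ?_, fun r hr hrq => ?_⟩
      · rw [Set.mem_singleton_iff]
        exact prime_dvd_card_isPGroup hQq hr hrd
      · rw [Set.mem_singleton_iff] at hrq
        rw [hrq]; exact hQi
    exact Cfsg.Agent.Lib.Helper12.isNilpotent_of_le hUtD
      (hD D (Cfsg.Agent.Lib.Helper31.isComplIn_symm
        (Cfsg.Agent.Lib.Helper28.BG12.isComplIn_of_hall_compl hQH hDH)))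
  -- N(U) ≤ M
  have hNUt : normalizer (Ut : Set G) ≤ M := by
    obtain ⟨l, hl, hld⟩ := Nat.exists_prime_and_dvd
      (show Nat.card Ut ≠ 1 from fun h => hUt1 (card_eq_one.mp h))
    haveI : Fact l.Prime := ⟨hl⟩
    obtain ⟨L, hL⟩ := exists_isSylowIn l Ut
    have hlσ : l ∈ Cfsg.sigma M := hMsH.2.1 l hl (hld.trans (card_dvd_of_le hUt.1))
    have hLM : IsSylowIn l L M :=
      isSylowIn_of_hall hMsH hlσ (isSylowIn_of_hall hUt (hUt.2.1 l hl hld) hL)
    exact (Cfsg.Agent.Lib.Helper14.BG12.normalizer_le_of_nilpotent hUtnil hL).trans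
      (normalizer_le_of_mem_sigma hlσ hLM)
  -- the type P data
  have hP : Cfsg.IsTypePWith M K Ut Ks := by
    refine ⟨hK1, hKc, ?_, ?_, hUtnil, hKUt, ?_, ?_, ?_, ?_, h56c, ?_, ?_, ?_⟩
    · exact Nat.coprime_of_dvd (fun p hp h1 h2 => hKH.2.2 p hp (hKH.2.1 p hp h1) h2)
    · rw [← hMs]; exact Cfsg.Agent.Lib.Helper31.isComplIn_symm hE
    · rw [← hMs]; exact hcompl
    · intro hc
      have hQc : IsCyclic Q := Subgroup.isCyclic_of_le hQF
      obtain ⟨A, hAM, hA, hAc⟩ := exists_elementary_of_not_pRankLE hqβ.1.2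
      have hAQ : A ≤ Q := hle_Q A hAM (fun a => ⟨1, by
        rw [pow_one]; exact Subtype.ext (hA.2 a a.2)⟩)
      have hAcyc : IsCyclic A := Subgroup.isCyclic_of_le hAQ
      obtain ⟨g, hg⟩ := hAcyc.exists_generator
      have h1 : Nat.card A = orderOf g := (orderOf_eq_card_of_forall_mem_zpowers hg).symm
      have h2 : orderOf g ∣ q := orderOf_dvd_of_pow_eq_one (Subtype.ext (hA.2 g g.2))
      have h3 : Nat.card A ≤ q := h1 ▸ Nat.le_of_dvd hq.out.pos h2
      have h4 : q ≤ q ^ 2 := Nat.le_self_pow (by norm_num) q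
      omega
    · rw [sup_comm, ← h56b]; exact h56a
    · rw [sup_comm, ← h56b]
    · refine le_inf ((hle_Q Ks (hKsle.trans (sigmaCore_le M)) hKsp).trans hQF) ?_
      rw [← hMs, hKs]
      exact (Cfsg.Agent.Lib.Helper31.bg1217_ab hG hM hE).1
    · intro x hx hx1
      rw [← hMs]; exact h30 x hx hx1
    · have hcop2 : (Nat.card K).Coprime (Nat.card Ks) :=
        Nat.Coprime.coprime_dvd_right (card_dvd_of_le hKsle) hcopK
      have hKsc : IsCyclic Ks := isCyclic_of_prime_card hKsq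
      have hZc := isCyclic_sup_of_coprime hKc hKsc hKsC hcop2
      refine ⟨hK1, hKs1, (disjoint_of_coprime_natCard hcop2).eq_bot, hKsC, hZc, ?_⟩
      intro X hX hXne
      apply le_antisymm
      · intro g hg
        rw [← h70b]
        by_contra hgn
        obtain ⟨x, hx⟩ := hXne
        have hgx : g * x * g⁻¹ ∈ X := (mem_set_normalizer_iff.mp hg x).mp hx
        have hx1 := h70a g hgn x (hX hx) (hX hgx)
        have := (hX hx).2
        apply this
        left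
        rw [hx1]; exact K.one_mem
      · intro z hz
        rw [mem_set_normalizer_iff]
        intro x
        have hcomm : ∀ x ∈ X, z * x * z⁻¹ = x := by
          intro x hx
          have hxZ : x ∈ K ⊔ Ks := (hX hx).1
          have := congrArg Subtype.val (comm_of_isCyclic hZc ⟨z, hz⟩ ⟨x, hxZ⟩)
          have h2 : z * x = x * z := this
          rw [h2, mul_inv_cancel_right]
        constructor
        · intro hx; rw [hcomm x hx]; exact hx
        · intro hx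
          have h1 := hcomm _ hx
          have h2 : z * x * z⁻¹ = x := by
            have h3 : z * (z * x * z⁻¹) * z⁻¹ = z * x * z⁻¹ := h1
            have h4 := congrArg (fun y => z⁻¹ * y * z) h3
            simpa [mul_assoc] using h4
          rw [← h2]; exact hx
  by_cases hc : IsMulCommutative Ut
  · exact Or.inl ⟨K, Ut, Ks, hP, hUt1, hKp, h57, hc, hNUt⟩
  · exact Or.inr ⟨K, Ut, Ks, hP, hUt1, hKp, h57, hc, hNUt⟩

/-- the direction `⇒` of S1382. -/
theorem of_type [Finite G] (hG : Cfsg.IsMinSimpleOddOrder G) {M K U W1 Ut W2 : Subgroup G}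
    (hM : IsCoatom M) (hKU : Cfsg.IsSigmaDecomposition M K U)
    (hP : Cfsg.IsTypePWith M W1 Ut W2) (hW1p : (Nat.card W1).Prime)
    (hN : normalizer (Ut : Set G) ≤ M)
    (h37 : Cfsg.fittingHallOf M ≠ Cfsg.sigmaCore M → U = ⊥)
    (h34 : K ≠ ⊥ → Cfsg.kappa M = Cfsg.tau1 M)
    (h63 : ∀ K' U' : Subgroup G, Cfsg.IsSigmaDecomposition M K' U' → K' ≠ ⊥ →
      ¬ normalizer (U' : Set G) ≤ M) :
    K ≠ ⊥ ∧ U = ⊥ ∧ Cfsg.fittingHallOf M ≠ Cfsg.sigmaCore M := by
  haveI : Fact (Nat.card W1).Prime := ⟨hW1p⟩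
  have hW1M : W1 ≤ M := hP.W₁_compl.2.1
  have hcM' : Nat.card ↥⁅M, M⁆ = W1.relIndex M := card_compl hP.W₁_compl
  have hwM' : ¬ Nat.card W1 ∣ Nat.card ↥⁅M, M⁆ := by
    intro h
    rw [hcM'] at h
    exact hW1p.one_lt.ne' (Nat.eq_one_of_dvd_coprimes hP.W₁_hall dvd_rfl h)
  have hW1pg : IsPGroup (Nat.card W1) W1 := IsPGroup.of_card (n := 1) (by rw [pow_one])
  have hwσ : Nat.card W1 ∉ Cfsg.sigma M := by
    intro h
    have h1 : W1 ≤ ⁅M, M⁆ := (isPGroup_le_sigmaCore hG hM h hW1M hW1pg).trans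
      (Cfsg.Agent.Lib.Helper31.sigmaCore_le_commutator hG hM)
    apply hP.W₁_ne
    rw [eq_bot_iff, ← hP.W₁_compl.2.2.1]
    exact le_inf h1 le_rfl
  have hcardM : Nat.card M = Nat.card W1 * Nat.card ↥⁅M, M⁆ := by
    rw [hcM']; exact card_eq_card_mul_relIndex hW1M
  have hr : Cfsg.PRankLE (Nat.card W1) 1 M := by
    intro A _ hA
    have hAp : IsPGroup (Nat.card W1) A := fun a => ⟨1, by
      rw [pow_one]; exact Subtype.ext (hA a a.2)⟩
    obtain ⟨k, hk⟩ := IsPGroup.iff_card.mp hAp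
    rw [hk]
    apply Nat.pow_le_pow_right hW1p.pos
    by_contra hk2
    have h2 : Nat.card W1 ^ 2 ∣ Nat.card M :=
      (pow_dvd_pow _ (by omega)).trans (hk ▸ A.card_subgroup_dvd_card)
    rw [hcardM, pow_two] at h2
    exact hwM' (Nat.dvd_of_mul_dvd_mul_left hW1p.pos h2)
  obtain ⟨x, hx⟩ := hP.W₁_cyclic.exists_generator
  have hxo : orderOf (x : G) = Nat.card W1 := by
    rw [Subgroup.orderOf_coe]; exact orderOf_eq_card_of_forall_mem_zpowers hx
  have hFle := Cfsg.Agent.Lib.Helper98.BG152.fittingHallOf_le_sigmaCore hG hM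
  obtain ⟨y, hy, hy1⟩ := Cfsg.Agent.Lib.Helper27.BG14.exists_ne_one_of_ne_bot hP.selfNormalizing.2.1
  have hκ : Nat.card W1 ∈ Cfsg.kappa M :=
    mem_kappa_of hG hwσ hr (hW1M x.2) hxo (hFle ((hP.W₂_le.trans inf_le_left) hy)) hy1
      (hP.selfNormalizing.2.2.2.1 x x.2 y hy)
  have hK1 : K ≠ ⊥ := by
    rintro rfl
    apply hKU.hall.2.2 _ hW1p hκ
    rw [relIndex_bot_left]
    exact card_dvd_of_le hW1M
  have hne : Cfsg.fittingHallOf M ≠ Cfsg.sigmaCore M := by
    intro heq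
    have hκτ := h34 hK1
    have hUtM' : Ut ≤ ⁅M, M⁆ := hP.U_compl.2.1
    have hM'M : ⁅M, M⁆ ≤ M := commutator_le_self M
    have hUtM : Ut ≤ M := hUtM'.trans hM'M
    have hW1N : W1 ≤ normalizer (Cfsg.sigmaCore M : Set G) := hW1M.trans (le_normalizer_sigmaCore M)
    refine h63 W1 Ut ⟨hP.W₁_cyclic, ⟨hW1M, ?_, ?_⟩, ⟨hUtM, sup_le hW1M (sigmaCore_le M), ?_, ?_⟩,
      hP.U_normal⟩ hP.W₁_ne hN
    · intro p hp hpd
      rw [(Nat.prime_dvd_prime_iff_eq hp hW1p).mp hpd]; exact hκ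
    · intro p hp hpκ hpd
      rw [hκτ] at hpκ
      rw [← hcM'] at hpd
      exact hpκ.2.2.2.1 hpd
    · have h1 : (Nat.card Ut).Coprime (Nat.card (Cfsg.sigmaCore M)) := by
        rw [← heq]
        exact (Cfsg.Agent.Lib.Helper29.coprime_card_fittingHallOf_of_disjoint M Ut hUtM
          hP.U_compl.2.2.1).symm
      have h2 : (Nat.card Ut).Coprime (Nat.card W1) := by
        rw [Nat.coprime_comm, hW1p.coprime_iff_not_dvd]
        exact fun h => hwM' (h.trans (card_dvd_of_le hUtM'))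
      have h3 : Nat.card (W1 ⊔ Cfsg.sigmaCore M : Subgroup G) ∣
          Nat.card W1 * Nat.card (Cfsg.sigmaCore M) :=
        Dvd.intro _ (Cfsg.Agent.Lib.Helper12.card_sup_mul_card_inf' W1 (Cfsg.sigmaCore M) hW1N)
      exact (disjoint_of_coprime_natCard
        (Nat.Coprime.coprime_dvd_right h3 (Nat.Coprime.mul_right h2 h1))).eq_bot
    · intro m hm
      obtain ⟨c, hc, d, hd, rfl⟩ := hP.W₁_compl.2.2.2 m hm
      obtain ⟨f, hf, u, hu, rfl⟩ := hP.U_compl.2.2.2 c hc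
      refine ⟨u, hu, (u⁻¹ * f * u) * d, ?_, by group⟩
      apply mul_mem _ (le_sup_left (b := Cfsg.sigmaCore M) hd)
      apply le_sup_right (a := W1)
      have h1 := (mem_normalizer_iff.mp (le_normalizer_sigmaCore M (M.inv_mem (hUtM hu))) f).mp
        (hFle hf)
      simpa using h1
  exact ⟨hK1, h37 hne, hne⟩

end Cfsg.Agent.Lib.Helper14.BG16
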