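import Cfsg.Agent.Lib.Helper14.Basic

set_option autoImplicit false
open scoped commutatorElement

namespace Cfsg.Agent.Lib.Helper14

variable {G : Type*} [Group G]

/-- If the commutators of generators lie in a subgroup `M` normalized by both closures,
then the commutator of the closures lies in `M`. -/
theorem commutator_closure_le (X Y : Set G) (M : Subgroup G)
    (hX : Subgroup.closure X ≤ Subgroup.normalizer (M : Set G))
    (hY : Subgroup.closure Y ≤ Subgroup.normalizer (M : Set G))
    (h : ∀ x ∈ X, ∀ y ∈ Y, ⁅x, y⁆ ∈ M) :
    ⁅Subgroup.closure X, Subgroup.closure Y⁆ ≤ M := by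
  have key : ∀ x ∈ X, ∀ y ∈ Subgroup.closure Y, ⁅x, y⁆ ∈ M := by
    intro x hx y hy
    induction hy using Subgroup.closure_induction with
    | mem y hy => exact h x hx y hy
    | one => simp
    | mul y z hy hz ihy ihz =>
      rw [commutatorElement_mul_right_eq_mul_conj, mul_assoc, mul_assoc, ← mul_assoc y]
      exact M.mul_mem ihy (conj_mem_of_mem_normalizer (hY hy) ihz)
    | inv y hy ih =>
      rw [commutatorElement_inv_right, ← commutatorElement_inv]
      exact conj_mem_of_mem_normalizer' (hY hy) (M.inv_mem ih)
  rw [Subgroup.commutator_le]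
  intro x hx y hy
  induction hx using Subgroup.closure_induction with
  | mem x hx => exact key x hx y hy
  | one => simp
  | mul x z hx hz ihx ihz =>
    rw [commutatorElement_mul_left_eq_conj_mul]
    exact M.mul_mem (conj_mem_of_mem_normalizer (hX hx) ihz) ihx
  | inv x hx ih =>
    rw [commutatorElement_inv_left, ← commutatorElement_inv]
    exact conj_mem_of_mem_normalizer' (hX hx) (M.inv_mem ih)

end Cfsg.Agent.Lib.Helper14
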