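import Cfsg.Agent.Lib.Helper14.PSAux

set_option autoImplicit false

namespace Cfsg.Agent.Lib.Helper14.PS

open Cfsg.Agent.Lib.Helper84.PS

variable {G : Type*} [Group G]

theorem s1c_normal (v : G) : (KK v).Normal := by
  refine ⟨fun n hn a => ?_⟩
  unfold KK at hn ⊢
  induction hn using Subgroup.closure_induction with
  | mem x hx =>
    obtain ⟨g, h, rfl⟩ := hx
    exact Subgroup.subset_closure ⟨a * g, a * h, by group⟩
  | one => simp
  | mul x y _ _ ihx ihy =>
    have : a * (x * y) * a⁻¹ = (a * x * a⁻¹) * (a * y * a⁻¹) := by group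
    rw [this]
    exact mul_mem ihx ihy
  | inv x _ ihx =>
    have : a * x⁻¹ * a⁻¹ = (a * x * a⁻¹)⁻¹ := by group
    rw [this]
    exact inv_mem ihx

/-- `K ⊴ G` of order prime to `|G : C|` lies in `C`. -/
theorem s1c_le [Finite G] (C K : Subgroup G) [K.Normal] (h : (Nat.card K).Coprime C.index) :
    K ≤ C := by
  have h1 := Cfsg.Agent.Lib.Helper12.card_sup_mul_card_inf C K
  have h2 := Cfsg.Agent.Lib.Helper12.relIndex_mul_card_inf K C
  have h3 := Cfsg.Agent.Lib.Helper12.relIndex_mul_card' (le_sup_left : C ≤ C ⊔ K)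
  have h4 := Subgroup.relIndex_mul_index (le_sup_left : C ≤ C ⊔ K)
  rw [inf_comm] at h2
  have hC : 0 < Nat.card C := Nat.card_pos
  have hI : 0 < Nat.card (C ⊓ K : Subgroup G) := Nat.card_pos
  have h5 : C.relIndex (C ⊔ K) = C.relIndex K := by
    rw [← h3, ← h2] at h1
    have : C.relIndex (C ⊔ K) * (Nat.card C * Nat.card (C ⊓ K : Subgroup G))
        = C.relIndex K * (Nat.card C * Nat.card (C ⊓ K : Subgroup G)) := by
      calc C.relIndex (C ⊔ K) * (Nat.card C * Nat.card (C ⊓ K : Subgroup G))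
          = C.relIndex (C ⊔ K) * Nat.card C * Nat.card (C ⊓ K : Subgroup G) := by ring
        _ = Nat.card C * (C.relIndex K * Nat.card (C ⊓ K : Subgroup G)) := h1
        _ = _ := by ring
    exact Nat.eq_of_mul_eq_mul_right (Nat.mul_pos hC hI) this
  have h6 : C.relIndex K ∣ C.index := h5 ▸ Dvd.intro _ h4
  have h7 : C.relIndex K ∣ Nat.card K := Dvd.intro _ h2
  have h8 : C.relIndex K = 1 := Nat.eq_one_of_dvd_coprimes h h7 h6
  exact Subgroup.relIndex_eq_one.mp h8

theorem s1c [Finite G] (p : ℕ) [Fact p.Prime] (v : G) (hvp : IsPE p v)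
    (hK1 : (Nat.card (KK v)).Coprime (idx v)) (hK2 : ¬ p ∣ Nat.card (KK v)) :
    v ∈ Subgroup.center G := by
  have hn := s1c_normal v
  have hKC : KK v ≤ Subgroup.centralizer ({v} : Set G) := s1c_le _ _ hK1
  obtain ⟨e, he⟩ := hvp
  have key : ∀ g : G, g * v * g⁻¹ = v := by
    intro g
    set k := (g * v * g⁻¹) * (1 * v * 1⁻¹)⁻¹ with hk
    have hkK : k ∈ KK v := Subgroup.subset_closure ⟨g, 1, rfl⟩
    have hk' : k = g * v * g⁻¹ * v⁻¹ := by rw [hk]; group
    have hkv : Commute k v := Subgroup.mem_centralizer_singleton_iff.mp (hKC hkK)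
    have h1 : g * v * g⁻¹ = k * v := by rw [hk']; group
    have h2 : (g * v * g⁻¹) ^ p ^ e = 1 := by rw [conj_pow, he]; group
    rw [h1, hkv.mul_pow, he, mul_one] at h2
    have h3 : orderOf k ∣ p ^ e := orderOf_dvd_of_pow_eq_one h2
    have h4 : orderOf k ∣ Nat.card (KK v) := by
      have := orderOf_dvd_natCard (⟨k, hkK⟩ : KK v)
      rwa [Subgroup.orderOf_mk] at this
    have hcop : (p ^ e).Coprime (Nat.card (KK v)) :=
      Nat.Coprime.pow_left e ((Nat.Prime.coprime_iff_not_dvd Fact.out).mpr hK2)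
    have h5 : orderOf k = 1 := Nat.eq_one_of_dvd_coprimes hcop h3 h4
    rw [orderOf_eq_one_iff] at h5
    rw [h1, h5, one_mul]
  rw [Subgroup.mem_center_iff]
  intro g
  have := key g
  calc g * v = g * v * g⁻¹ * g := by group
    _ = v * g := by rw [this]

end Cfsg.Agent.Lib.Helper14.PS
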