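import Cfsg.Agent.Lib.Helper14.PSAux

set_option autoImplicit false

namespace Cfsg.Agent.Lib.Helper14.PS

open Cfsg.Agent.Lib.Helper84.PS
open scoped Pointwise

variable {G : Type*} [Group G]

theorem st5 [Finite G] (p : ℕ) [Fact p.Prime] (u : G)
    (hNA : ∀ t : ℕ, t.Prime → t ∣ idx u → ¬ Lk G p t p)
    (P : Sylow p G)
    (h3 : ∀ w : G, Commute w u → ¬ p ∣ orderOf w → ∀ x ∈ (P : Subgroup G), Commute w x)
    (y : G) (hyp : IsPE p y) (hy : p ∣ idx y) (l : ℕ) (hl : l.Prime) (hlp : l ≠ p) :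
    ¬ l ∣ idx y := by
  intro hly
  have : Fact l.Prime := ⟨hl⟩
  have hpp : p.Prime := Fact.out
  -- `y ≠ 1`
  have hy1 : y ≠ 1 := by
    rintro rfl
    have h1 : idx (1 : G) = 1 := by
      unfold idx
      rw [Subgroup.index_eq_one, eq_top_iff]
      intro g _
      rw [Subgroup.mem_centralizer_singleton_iff]
      simp
    rw [h1] at hy
    exact hpp.one_lt.ne' (Nat.dvd_one.mp hy)
  have hys : p ∣ orderOf y := by
    obtain ⟨e, he⟩ := hyp
    obtain ⟨k, _, hk⟩ := (Nat.dvd_prime_pow hpp).mp (orderOf_dvd_of_pow_eq_one he)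
    rw [hk]
    apply dvd_pow_self
    rintro rfl
    rw [pow_zero, orderOf_eq_one_iff] at hk
    exact hy1 hk
  have hlu : ¬ l ∣ idx u := fun h => hNA l hl h ⟨y, hys, hly, hy⟩
  obtain ⟨S, hS⟩ := aux_exists_sylow_le u hlu
  obtain ⟨g, hg⟩ := aux_exists_conj_mem_sylow y hyp P
  have hly' : l ∣ idx (g * y * g⁻¹) := by rw [aux_idx_conj]; exact hly
  apply aux_not_dvd_idx_of_sylow_le (g * y * g⁻¹) S _ hly'
  intro w hw
  rw [Subgroup.mem_centralizer_singleton_iff]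
  have hwu : Commute w u := Subgroup.mem_centralizer_singleton_iff.mp (hS hw)
  have hwp : ¬ p ∣ orderOf w := by
    intro hd
    obtain ⟨e, he⟩ := S.2 ⟨w, hw⟩
    have he' : w ^ l ^ e = 1 := congrArg Subtype.val he
    have h1 := hd.trans (orderOf_dvd_of_pow_eq_one he')
    exact hlp ((Nat.prime_dvd_prime_iff_eq hpp hl).mp (hpp.dvd_of_dvd_pow h1)).symm
  exact (h3 w hwu hwp _ hg).eq

end Cfsg.Agent.Lib.Helper14.PS
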