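import Mathlib
import Cfsg.Agent.Lib.Helper46.SL2Basic

set_option autoImplicit false

namespace Cfsg.Agent.Lib.Helper14

open Matrix

section SL2hom

variable {k : Type*} [Field k] {M : Type*} [AddCommGroup M] [Module k M]

/-- upper unitriangular element of `SL₂`. -/
def slU (θ : k) : SpecialLinearGroup (Fin 2) k := ⟨!![1, θ; 0, 1], by simp [Matrix.det_fin_two]⟩

/-- lower unitriangular element of `SL₂`. -/
def slL (θ : k) : SpecialLinearGroup (Fin 2) k := ⟨!![1, 0; θ, 1], by simp [Matrix.det_fin_two]⟩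

/-- `f` acts on the pair `(w, w')` through the matrix `m`. -/
def ActsBy (f : Module.End k M) (w w' : M) (m : SpecialLinearGroup (Fin 2) k) : Prop :=
  f w = (m : Matrix (Fin 2) (Fin 2) k) 0 0 • w + (m : Matrix (Fin 2) (Fin 2) k) 1 0 • w' ∧
    f w' = (m : Matrix (Fin 2) (Fin 2) k) 0 1 • w + (m : Matrix (Fin 2) (Fin 2) k) 1 1 • w'

theorem ActsBy.mul {f g : Module.End k M} {w w' : M} {m n : SpecialLinearGroup (Fin 2) k}
    (hf : ActsBy f w w' m) (hg : ActsBy g w w' n) : ActsBy (f * g) w w' (m * n) := by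
  obtain ⟨hf1, hf2⟩ := hf
  obtain ⟨hg1, hg2⟩ := hg
  constructor
  · rw [Module.End.mul_apply, hg1, map_add, map_smul, map_smul, hf1, hf2,
      Helper46.mul_00, Helper46.mul_10]
    module
  · rw [Module.End.mul_apply, hg2, map_add, map_smul, map_smul, hf1, hf2,
      Helper46.mul_01, Helper46.mul_11]
    module

theorem ActsBy.one (w w' : M) : ActsBy (1 : Module.End k M) w w' 1 := by
  constructor <;> simp

theorem ActsBy.inv {f g : Module.End k M} {w w' : M} {m : SpecialLinearGroup (Fin 2) k}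
    (hgf : g * f = 1) (hf : ActsBy f w w' m) : ActsBy g w w' m⁻¹ := by
  obtain ⟨hf1, hf2⟩ := hf
  have hdet : (m : Matrix (Fin 2) (Fin 2) k) 0 0 * (m : Matrix (Fin 2) (Fin 2) k) 1 1 -
      (m : Matrix (Fin 2) (Fin 2) k) 0 1 * (m : Matrix (Fin 2) (Fin 2) k) 1 0 = 1 := by
    have := m.det_coe
    rwa [Matrix.det_fin_two] at this
  have h1 : w = (m : Matrix (Fin 2) (Fin 2) k) 0 0 • g w +
      (m : Matrix (Fin 2) (Fin 2) k) 1 0 • g w' := by
    have : g (f w) = w := by rw [← Module.End.mul_apply, hgf]; rfl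
    rw [hf1, map_add, map_smul, map_smul] at this
    exact this.symm
  have h2 : w' = (m : Matrix (Fin 2) (Fin 2) k) 0 1 • g w +
      (m : Matrix (Fin 2) (Fin 2) k) 1 1 • g w' := by
    have : g (f w') = w' := by rw [← Module.End.mul_apply, hgf]; rfl
    rw [hf2, map_add, map_smul, map_smul] at this
    exact this.symm
  have e00 : (↑(m⁻¹) : Matrix (Fin 2) (Fin 2) k) 0 0 = (m : Matrix (Fin 2) (Fin 2) k) 1 1 := by
    simp [Matrix.adjugate_fin_two]
  have e10 : (↑(m⁻¹) : Matrix (Fin 2) (Fin 2) k) 1 0 = - (m : Matrix (Fin 2) (Fin 2) k) 1 0 := by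
    simp [Matrix.adjugate_fin_two]
  have e01 : (↑(m⁻¹) : Matrix (Fin 2) (Fin 2) k) 0 1 = - (m : Matrix (Fin 2) (Fin 2) k) 0 1 := by
    simp [Matrix.adjugate_fin_two]
  have e11 : (↑(m⁻¹) : Matrix (Fin 2) (Fin 2) k) 1 1 = (m : Matrix (Fin 2) (Fin 2) k) 0 0 := by
    simp [Matrix.adjugate_fin_two]
  unfold ActsBy
  rw [e00, e10, e01, e11]
  generalize g w = a at h1 h2 ⊢
  generalize g w' = b at h1 h2 ⊢
  generalize (m : Matrix (Fin 2) (Fin 2) k) 0 0 = m00 at *
  generalize (m : Matrix (Fin 2) (Fin 2) k) 0 1 = m01 at *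
  generalize (m : Matrix (Fin 2) (Fin 2) k) 1 0 = m10 at *
  generalize (m : Matrix (Fin 2) (Fin 2) k) 1 1 = m11 at *
  constructor
  · calc a = (m00 * m11 - m01 * m10) • a := by rw [hdet, one_smul]
      _ = m11 • (m00 • a + m10 • b) + -m10 • (m01 • a + m11 • b) := by module
      _ = _ := by rw [← h1, ← h2]
  · calc b = (m00 * m11 - m01 * m10) • b := by rw [hdet, one_smul]
      _ = -m01 • (m00 • a + m10 • b) + m00 • (m01 • a + m11 • b) := by module
      _ = _ := by rw [← h1, ← h2]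

theorem ActsBy.unique {f : Module.End k M} {w w' : M} {m n : SpecialLinearGroup (Fin 2) k}
    (hli : ∀ s t : k, s • w + t • w' = 0 → s = 0 ∧ t = 0)
    (hm : ActsBy f w w' m) (hn : ActsBy f w w' n) : m = n := by
  obtain ⟨hm1, hm2⟩ := hm
  obtain ⟨hn1, hn2⟩ := hn
  have h1 := hli ((m : Matrix (Fin 2) (Fin 2) k) 0 0 - (n : Matrix (Fin 2) (Fin 2) k) 0 0)
    ((m : Matrix (Fin 2) (Fin 2) k) 1 0 - (n : Matrix (Fin 2) (Fin 2) k) 1 0) (by
    have := hm1.symm.trans hn1
    rw [sub_smul, sub_smul, sub_add_sub_comm, this, sub_self])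
  have h2 := hli ((m : Matrix (Fin 2) (Fin 2) k) 0 1 - (n : Matrix (Fin 2) (Fin 2) k) 0 1)
    ((m : Matrix (Fin 2) (Fin 2) k) 1 1 - (n : Matrix (Fin 2) (Fin 2) k) 1 1) (by
    have := hm2.symm.trans hn2
    rw [sub_smul, sub_smul, sub_add_sub_comm, this, sub_self])
  ext i j
  fin_cases i <;> fin_cases j
  · exact sub_eq_zero.mp h1.1
  · exact sub_eq_zero.mp h2.1
  · exact sub_eq_zero.mp h1.2
  · exact sub_eq_zero.mp h2.2

/-- A group generated by `x, y` acting on a module so that `x, y` act on an independent pair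
`(w, w')` through matrices of `SL₂` maps to `SL₂`. -/
theorem exists_hom_SL2_of_actsBy {X : Type*} [Group X] (ρ : X →* Module.End k M) (x y : X)
    (hxy : Subgroup.closure {x, y} = ⊤) (w w' : M)
    (hli : ∀ s t : k, s • w + t • w' = 0 → s = 0 ∧ t = 0)
    (mx my : SpecialLinearGroup (Fin 2) k)
    (hx : ActsBy (ρ x) w w' mx) (hy : ActsBy (ρ y) w w' my) :
    ∃ φ : X →* SpecialLinearGroup (Fin 2) k, φ x = mx ∧ φ y = my := by
  have hex : ∀ g : X, ∃ m, ActsBy (ρ g) w w' m := by
    intro g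
    have hg : g ∈ Subgroup.closure {x, y} := by rw [hxy]; trivial
    induction hg using Subgroup.closure_induction with
    | mem g hg =>
      rcases hg with rfl | rfl
      · exact ⟨mx, hx⟩
      · exact ⟨my, hy⟩
    | one => exact ⟨1, by rw [map_one]; exact ActsBy.one w w'⟩
    | mul g h _ _ ihg ihh =>
      obtain ⟨m, hm⟩ := ihg
      obtain ⟨n, hn⟩ := ihh
      exact ⟨m * n, by rw [map_mul]; exact hm.mul hn⟩
    | inv g _ ih =>
      obtain ⟨m, hm⟩ := ih
      exact ⟨m⁻¹, ActsBy.inv (by rw [← map_mul, inv_mul_cancel, map_one]) hm⟩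
  choose φ hφ using hex
  refine ⟨MonoidHom.mk' φ ?_, ?_, ?_⟩
  · intro g h
    exact ActsBy.unique hli (hφ (g * h)) (by rw [map_mul]; exact (hφ g).mul (hφ h))
  · exact ActsBy.unique hli (hφ x) hx
  · exact ActsBy.unique hli (hφ y) hy

@[simp] theorem slU_00 (θ : k) : (slU θ : Matrix (Fin 2) (Fin 2) k) 0 0 = 1 := rfl
@[simp] theorem slU_01 (θ : k) : (slU θ : Matrix (Fin 2) (Fin 2) k) 0 1 = θ := rfl
@[simp] theorem slU_10 (θ : k) : (slU θ : Matrix (Fin 2) (Fin 2) k) 1 0 = 0 := rfl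
@[simp] theorem slU_11 (θ : k) : (slU θ : Matrix (Fin 2) (Fin 2) k) 1 1 = 1 := rfl
@[simp] theorem slL_00 (θ : k) : (slL θ : Matrix (Fin 2) (Fin 2) k) 0 0 = 1 := rfl
@[simp] theorem slL_01 (θ : k) : (slL θ : Matrix (Fin 2) (Fin 2) k) 0 1 = 0 := rfl
@[simp] theorem slL_10 (θ : k) : (slL θ : Matrix (Fin 2) (Fin 2) k) 1 0 = θ := rfl
@[simp] theorem slL_11 (θ : k) : (slL θ : Matrix (Fin 2) (Fin 2) k) 1 1 = 1 := rfl

/-- Quadratic pair with a nonzero eigenvalue `θ` of `t = AB + BA`: a homomorphism to `SL₂`. -/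
theorem exists_hom_SL2_of_eigen {X : Type*} [Group X] (ρ : X →* Module.End k M) (x y : X)
    (hxy : Subgroup.closure {x, y} = ⊤)
    (hA : (ρ x - 1) * (ρ x - 1) = 0) (hB : (ρ y - 1) * (ρ y - 1) = 0)
    (θ : k) (hθ : θ ≠ 0) (m : M) (hm : m ≠ 0)
    (hmt : ((ρ x - 1) * (ρ y - 1) + (ρ y - 1) * (ρ x - 1)) m = θ • m) :
    ∃ φ : X →* SpecialLinearGroup (Fin 2) k, φ x = slU θ ∧ φ y = slL 1 := by
  set A := ρ x - 1 with hAdef
  set B := ρ y - 1 with hBdef
  have hρx : ρ x = 1 + A := by rw [hAdef]; abel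
  have hρy : ρ y = 1 + B := by rw [hBdef]; abel
  have hAA : ∀ v, A (A v) = 0 := fun v => by
    rw [← Module.End.mul_apply, hA]; rfl
  have hBB : ∀ v, B (B v) = 0 := fun v => by
    rw [← Module.End.mul_apply, hB]; rfl
  have ht : ∀ v, (A * B + B * A) v = A (B v) + B (A v) := fun v => rfl
  obtain ⟨w, hw, hAw, htw⟩ : ∃ w : M, w ≠ 0 ∧ A w = 0 ∧ A (B w) + B (A w) = θ • w := by
    by_cases h : A m = 0
    · exact ⟨m, hm, h, by rw [← ht, hmt]⟩
    · refine ⟨A m, h, hAA m, ?_⟩
      rw [hAA, map_zero, add_zero]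
      have := congrArg A hmt
      rw [ht, map_add, hAA, zero_add, map_smul] at this
      exact this
  rw [hAw, map_zero, add_zero] at htw
  refine exists_hom_SL2_of_actsBy ρ x y hxy w (B w) ?_ (slU θ) (slL 1) ?_ ?_
  · intro s t' hst
    have h1 := congrArg A hst
    rw [map_add, map_smul, map_smul, hAw, htw, smul_zero, zero_add, map_zero, smul_smul] at h1
    have ht' : t' = 0 := by
      rcases smul_eq_zero.mp h1 with h | h
      · exact (mul_eq_zero.mp h).resolve_right hθ
      · exact absurd h hw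
    rw [ht', zero_smul, add_zero] at hst
    exact ⟨(smul_eq_zero.mp hst).resolve_right hw, ht'⟩
  · constructor
    · rw [hρx, LinearMap.add_apply, hAw]; simp
    · rw [hρx, LinearMap.add_apply, htw]; simp [add_comm]
  · constructor
    · rw [hρy, LinearMap.add_apply]; simp
    · rw [hρy, LinearMap.add_apply, hBB]; simp

end SL2hom

section Nilpotent

variable {k : Type*} [Field k] {M : Type*} [AddCommGroup M] [Module k M]

/-- If `t = AB + BA` is nilpotent for a quadratic pair, the group acts unipotently. -/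
theorem exists_sub_one_pow_eq_zero {X : Type*} [Group X] (ρ : X →* Module.End k M) (x y : X)
    (hxy : Subgroup.closure {x, y} = ⊤)
    (hA : (ρ x - 1) * (ρ x - 1) = 0) (hB : (ρ y - 1) * (ρ y - 1) = 0)
    (ht : IsNilpotent ((ρ x - 1) * (ρ y - 1) + (ρ y - 1) * (ρ x - 1))) :
    ∃ L : ℕ, ∀ g : X, (ρ g - 1) ^ L = 0 := by
  set A := ρ x - 1 with hAdef
  set B := ρ y - 1 with hBdef
  set t := A * B + B * A with htdef
  have hρx : ρ x = 1 + A := by rw [hAdef]; abel
  have hρy : ρ y = 1 + B := by rw [hBdef]; abel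
  have hρx' : ρ x⁻¹ = 1 - A := by
    have h1 : ρ x⁻¹ * ρ x = 1 := by rw [← map_mul, inv_mul_cancel, map_one]
    have h2 : ρ x * (1 - A) = 1 := by
      have : (1 + A) * (1 - A) = 1 - A * A := by noncomm_ring
      rw [hρx, this, hA, sub_zero]
    calc ρ x⁻¹ = ρ x⁻¹ * (ρ x * (1 - A)) := by rw [h2, mul_one]
      _ = 1 - A := by rw [← mul_assoc, h1, one_mul]
  have hρy' : ρ y⁻¹ = 1 - B := by
    have h1 : ρ y⁻¹ * ρ y = 1 := by rw [← map_mul, inv_mul_cancel, map_one]
    have h2 : ρ y * (1 - B) = 1 := by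
      have : (1 + B) * (1 - B) = 1 - B * B := by noncomm_ring
      rw [hρy, this, hB, sub_zero]
    calc ρ y⁻¹ = ρ y⁻¹ * (ρ y * (1 - B)) := by rw [h2, mul_one]
      _ = 1 - B := by rw [← mul_assoc, h1, one_mul]
  have hABA : A * (B * A) = t * A := by
    rw [htdef, add_mul, mul_assoc, mul_assoc, hA, mul_zero, add_zero]
  have hBAB : B * (A * B) = t * B := by
    rw [htdef, add_mul, mul_assoc, mul_assoc, hB, mul_zero, zero_add]
  have hmm : ∀ (f g : Module.End k M) (S : Submodule k M), (S.map g).map f = S.map (f * g) :=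
    fun f g S => (Submodule.map_comp g f S).symm
  let Φ : Submodule k M → Submodule k M := fun S => S.map A ⊔ S.map B
  have hΦ3 : ∀ S, Φ (Φ (Φ S)) = (Φ S).map t := by
    intro S
    have h1 : (Φ S).map A = S.map (A * B) := by
      show (S.map A ⊔ S.map B).map A = _
      rw [Submodule.map_sup, hmm, hmm, hA, Submodule.map_zero, bot_sup_eq]
    have h2 : (Φ S).map B = S.map (B * A) := by
      show (S.map A ⊔ S.map B).map B = _
      rw [Submodule.map_sup, hmm, hmm, hB, Submodule.map_zero, sup_bot_eq]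
    have h3 : Φ (Φ S) = S.map (A * B) ⊔ S.map (B * A) := by
      show (Φ S).map A ⊔ (Φ S).map B = _
      rw [h1, h2]
    show (Φ (Φ S)).map A ⊔ (Φ (Φ S)).map B = (S.map A ⊔ S.map B).map t
    rw [h3, Submodule.map_sup, Submodule.map_sup, hmm, hmm, hmm, hmm, ← mul_assoc A A B, hA,
      zero_mul, Submodule.map_zero, bot_sup_eq, ← mul_assoc B B A, hB, zero_mul,
      Submodule.map_zero, sup_bot_eq, hABA, hBAB, Submodule.map_sup, hmm, hmm]
  let W : ℕ → Submodule k M := fun i => Φ^[i] ⊤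
  have hWs : ∀ i, W (i + 1) = Φ (W i) := fun i => Function.iterate_succ_apply' Φ i ⊤
  have hΦmono : Monotone Φ := fun S T h =>
    sup_le_sup (Submodule.map_mono h) (Submodule.map_mono h)
  have hanti : ∀ i, W (i + 1) ≤ W i := by
    intro i
    induction i with
    | zero => exact le_top
    | succ i ih =>
      have := hΦmono ih
      rwa [← hWs, ← hWs] at this
  have hodd : ∀ j, W (2 * j + 1) = (W 1).map (t ^ j) := by
    intro j
    induction j with
    | zero => simp [Module.End.one_eq_id]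
    | succ j ih =>
      have : 2 * (j + 1) + 1 = 2 * j + 1 + 1 + 1 := by ring
      rw [this, hWs, hWs, hWs (2 * j), hΦ3, ← hWs, ih, hmm, ← pow_succ']
  obtain ⟨m, hm⟩ := ht
  have hbot : W (2 * m + 1) = ⊥ := by rw [hodd, hm, Submodule.map_zero]
  have hstep : ∀ g : X, ∀ i, ∀ v ∈ W i, ρ g v - v ∈ W (i + 1) := by
    intro g
    have hg : g ∈ Subgroup.closure {x, y} := by rw [hxy]; trivial
    induction hg using Subgroup.closure_induction'' with
    | mem g hg =>
      intro i v hv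
      rw [hWs]
      rcases hg with rfl | rfl
      · rw [hρx, LinearMap.add_apply, Module.End.one_apply, add_sub_cancel_left]
        exact Submodule.mem_sup_left (Submodule.mem_map_of_mem hv)
      · rw [hρy, LinearMap.add_apply, Module.End.one_apply, add_sub_cancel_left]
        exact Submodule.mem_sup_right (Submodule.mem_map_of_mem hv)
    | inv_mem g hg =>
      intro i v hv
      rw [hWs]
      rcases hg with rfl | rfl
      · rw [hρx', LinearMap.sub_apply, Module.End.one_apply, sub_sub_cancel_left]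
        exact Submodule.neg_mem _ (Submodule.mem_sup_left (Submodule.mem_map_of_mem hv))
      · rw [hρy', LinearMap.sub_apply, Module.End.one_apply, sub_sub_cancel_left]
        exact Submodule.neg_mem _ (Submodule.mem_sup_right (Submodule.mem_map_of_mem hv))
    | one =>
      intro i v _
      rw [map_one, Module.End.one_apply, sub_self]
      exact Submodule.zero_mem _
    | mul g h _ _ ihg ihh =>
      intro i v hv
      have h1 : ρ h v ∈ W i := by
        have := Submodule.add_mem _ (hanti i (ihh i v hv)) hv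
        rwa [sub_add_cancel] at this
      have := Submodule.add_mem _ (ihg i _ h1) (ihh i v hv)
      rwa [sub_add_sub_cancel, ← Module.End.mul_apply, ← map_mul] at this
  refine ⟨2 * m + 1, fun g => ?_⟩
  have hpow : ∀ i v, ((ρ g - 1) ^ i) v ∈ W i := by
    intro i
    induction i with
    | zero => intro v; exact Submodule.mem_top
    | succ i ih =>
      intro v
      rw [pow_succ', Module.End.mul_apply, LinearMap.sub_apply, Module.End.one_apply]
      exact hstep g i _ (ih v)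
  ext v
  have := hpow (2 * m + 1) v
  rw [hbot, Submodule.mem_bot] at this
  rw [this]; rfl

theorem pow_char_pow_eq_one_of_sub_one_pow_eq_zero (p : ℕ) [Fact p.Prime] [CharP k p]
    (f : Module.End k M) {L : ℕ} (hf : (f - 1) ^ L = 0) : f ^ (p ^ L) = 1 := by
  have h1 : (f - 1) ^ (p ^ L) = 0 :=
    pow_eq_zero_of_le (Nat.lt_pow_self (Fact.out : p.Prime).one_lt).le hf
  have h2 : ((Polynomial.X - 1 : Polynomial k)) ^ (p ^ L) = Polynomial.X ^ (p ^ L) - 1 := by
    rw [sub_pow_char_pow, one_pow]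
  have h3 := congrArg (Polynomial.aeval f) h2
  simp only [map_pow, map_sub, Polynomial.aeval_X, map_one] at h3
  rw [h1] at h3
  exact (sub_eq_zero.mp h3.symm)

end Nilpotent

section BaseChange

open Polynomial TensorProduct

theorem exists_irreducible_factor_of_not_isNilpotent {k V : Type*} [Field k] [AddCommGroup V]
    [Module k V] [Module.Finite k V] (t : Module.End k V) (ht : ¬ IsNilpotent t) :
    ∃ f : k[X], Irreducible f ∧ f ∣ LinearMap.charpoly t ∧ ¬ (X ∣ f) := by
  have hχ0 : LinearMap.charpoly t ≠ 0 := (LinearMap.charpoly_monic t).ne_zero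
  obtain ⟨j, q, hq, hXq⟩ : ∃ (j : ℕ) (q : k[X]), LinearMap.charpoly t = X ^ j * q ∧ ¬ X ∣ q := by
    obtain ⟨q, hq, hXq⟩ :=
      Polynomial.exists_eq_pow_rootMultiplicity_mul_and_not_dvd (LinearMap.charpoly t) hχ0 0
    rw [C_0, sub_zero] at hq hXq
    exact ⟨_, q, hq, hXq⟩
  have hq0 : q ≠ 0 := by
    rintro rfl
    rw [mul_zero] at hq
    exact hχ0 hq
  have hqu : ¬ IsUnit q := by
    intro hu
    apply ht
    obtain ⟨c, hc, rfl⟩ := Polynomial.isUnit_iff.mp hu
    refine ⟨j, ?_⟩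
    have := LinearMap.aeval_self_charpoly t
    rw [hq, map_mul, map_pow, aeval_X, aeval_C, ← Algebra.commutes, ← Algebra.smul_def] at this
    exact (smul_eq_zero.mp this).resolve_left hc.ne_zero
  obtain ⟨f, hf, hfq⟩ := WfDvdMonoid.exists_irreducible_factor hqu hq0
  exact ⟨f, hf, hq ▸ Dvd.dvd.mul_left hfq _, fun h => hXq (h.trans hfq)⟩

/-- A quadratic pair over `𝔽_p` with non-nilpotent `t = AB + BA` gives a homomorphism to `SL₂` of a
finite field of characteristic `p`, sending the generators to `u(θ)`, `l(1)` with `θ ≠ 0`. -/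
theorem exists_field_hom_SL2 (p : ℕ) [Fact p.Prime] {V : Type*} [AddCommGroup V]
    [Module (ZMod p) V] [Finite V] {Γ : Type*} [Group Γ] (ρ : Γ →* Module.End (ZMod p) V) (x y : Γ)
    (hxy : Subgroup.closure {x, y} = ⊤)
    (hA : (ρ x - 1) * (ρ x - 1) = 0) (hB : (ρ y - 1) * (ρ y - 1) = 0)
    (ht : ¬ IsNilpotent ((ρ x - 1) * (ρ y - 1) + (ρ y - 1) * (ρ x - 1))) :
    ∃ (K : Type) (_ : Field K) (_ : Fintype K) (_ : CharP K p) (θ : K)
      (φ : Γ →* SpecialLinearGroup (Fin 2) K), θ ≠ 0 ∧ φ x = slU θ ∧ φ y = slL 1 := by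
  have : Module.Finite (ZMod p) V := Module.Finite.of_finite
  obtain ⟨f, hf, hfχ, hXf⟩ := exists_irreducible_factor_of_not_isNilpotent _ ht
  have : Fact (Irreducible f) := ⟨hf⟩
  let K := AdjoinRoot f
  have : Module.Finite (ZMod p) K := (AdjoinRoot.powerBasis hf.ne_zero).finite
  have : Finite K := Module.finite_of_finite (ZMod p)
  have : CharP K p := charP_of_injective_algebraMap (algebraMap (ZMod p) K).injective p
  let bc : Module.End (ZMod p) V →ₐ[ZMod p] Module.End K (K ⊗[ZMod p] V) :=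
    Module.End.baseChangeHom (ZMod p) K V
  let ρK : Γ →* Module.End K (K ⊗[ZMod p] V) := (bc : _ →* _).comp ρ
  have hρK : ∀ g, ρK g - 1 = bc (ρ g - 1) := fun g => by
    rw [map_sub, map_one]; rfl
  set t := (ρ x - 1) * (ρ y - 1) + (ρ y - 1) * (ρ x - 1) with htdef
  let θ : K := AdjoinRoot.root f
  have hθ : θ ≠ 0 := by
    intro h
    have h1 : f ∣ X := by
      rw [← AdjoinRoot.mk_eq_zero, AdjoinRoot.mk_X]; exact h
    obtain ⟨c, hc⟩ := h1
    rcases (Polynomial.irreducible_X).isUnit_or_isUnit hc with hu | hu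
    · exact hf.not_isUnit hu
    · apply hXf
      obtain ⟨u, hu⟩ := hu
      exact ⟨↑u⁻¹, by rw [hc, ← hu, mul_assoc, Units.mul_inv, mul_one]⟩
  have hroot : (LinearMap.charpoly (bc t)).IsRoot θ := by
    have h1 : bc t = t.baseChange K := rfl
    rw [h1, LinearMap.charpoly_baseChange, IsRoot.def, eval_map]
    obtain ⟨c, hc⟩ := hfχ
    rw [hc, eval₂_mul]
    have : eval₂ (algebraMap (ZMod p) K) θ f = 0 := AdjoinRoot.eval₂_root f
    rw [this, zero_mul]
  obtain ⟨m, hm⟩ := ((Module.End.hasEigenvalue_iff_isRoot_charpoly _ _).mpr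
    hroot).exists_hasEigenvector
  obtain ⟨φ, hφx, hφy⟩ := exists_hom_SL2_of_eigen ρK x y hxy
    (by rw [hρK, ← map_mul, hA, map_zero]) (by rw [hρK, ← map_mul, hB, map_zero]) θ hθ m hm.2
    (by rw [hρK, hρK, ← map_mul, ← map_mul, ← map_add]; exact hm.apply_eq_smul)
  exact ⟨K, inferInstance, Fintype.ofFinite K, inferInstance, θ, φ, hθ, hφx, hφy⟩

end BaseChange

section Abstract

/-- Dichotomy for a quadratic pair acting on a finite elementary abelian `p`-group: either the
group acts as a `p`-group, or it maps to `SL₂` of a finite field with the generators going to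
`u(θ)`, `l(1)`, `θ ≠ 0`. -/
theorem quadratic_pair_dichotomy (p : ℕ) [Fact p.Prime] {U : Type*} [CommGroup U] [Finite U]
    (hU : ∀ u : U, u ^ p = 1) {Γ : Type*} [Group Γ] (σ : Γ →* MulAut U) (x y : Γ)
    (hxy : Subgroup.closure {x, y} = ⊤)
    (hx : ∀ u : U, σ x (σ x u * u⁻¹) = σ x u * u⁻¹)
    (hy : ∀ u : U, σ y (σ y u * u⁻¹) = σ y u * u⁻¹) :
    (∃ L : ℕ, ∀ g : Γ, σ g ^ (p ^ L) = 1) ∨
    ∃ (K : Type) (_ : Field K) (_ : Fintype K) (_ : CharP K p) (θ : K)
      (φ : Γ →* SpecialLinearGroup (Fin 2) K), θ ≠ 0 ∧ φ x = slU θ ∧ φ y = slL 1 := by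
  let _ : Module (ZMod p) (Additive U) := AddCommGroup.zmodModule (n := p) (fun u =>
    congrArg Additive.ofMul (hU u.toMul))
  let ρ : Γ →* Module.End (ZMod p) (Additive U) :=
    { toFun := fun g => AddMonoidHom.toZModLinearMap p (MonoidHom.toAdditive (σ g).toMonoidHom)
      map_one' := by
        ext u
        simp
      map_mul' := fun g h => by
        ext u
        simp }
  have hρ : ∀ g (u : Additive U), ρ g u = Additive.ofMul (σ g u.toMul) := fun g u => rfl
  have hq : ∀ z : Γ, (∀ u : U, σ z (σ z u * u⁻¹) = σ z u * u⁻¹) → (ρ z - 1) * (ρ z - 1) = 0 := by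
    intro z hz
    ext u
    have h1 : ρ z (ρ z u - u) = ρ z u - u := by
      show Additive.ofMul (σ z (σ z u.toMul / u.toMul)) = Additive.ofMul (σ z u.toMul / u.toMul)
      rw [div_eq_mul_inv, hz]
    rw [Module.End.mul_apply, LinearMap.sub_apply, LinearMap.sub_apply, Module.End.one_apply,
      Module.End.one_apply, h1, sub_self]
    rfl
  by_cases ht : IsNilpotent ((ρ x - 1) * (ρ y - 1) + (ρ y - 1) * (ρ x - 1))
  · left
    obtain ⟨L, hL⟩ := exists_sub_one_pow_eq_zero ρ x y hxy (hq x hx) (hq y hy) ht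
    refine ⟨L, fun g => ?_⟩
    have h1 := pow_char_pow_eq_one_of_sub_one_pow_eq_zero p (ρ g) (hL g)
    rw [← map_pow] at h1 ⊢
    ext u
    have h2 := congrArg (fun f : Module.End (ZMod p) (Additive U) => f (Additive.ofMul u)) h1
    exact congrArg Additive.toMul h2
  · right
    exact exists_field_hom_SL2 p ρ x y hxy (hq x hx) (hq y hy) ht

end Abstract

section SL2facts

variable {K : Type*} [Field K]

theorem slU_mul_slU (a b : K) : slU a * slU b = slU (a + b) := by
  apply Helper46.ext2 <;> simp [Helper46.mul_00, Helper46.mul_01, Helper46.mul_10, Helper46.mul_11, add_comm]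

theorem slL_mul_slL (a b : K) : slL a * slL b = slL (a + b) := by
  apply Helper46.ext2 <;> simp [Helper46.mul_00, Helper46.mul_01, Helper46.mul_10, Helper46.mul_11]

theorem slU_zero : slU (0 : K) = 1 := by
  apply Helper46.ext2 <;> simp

theorem slL_zero : slL (0 : K) = 1 := by
  apply Helper46.ext2 <;> simp

theorem slU_pow (a : K) (n : ℕ) : slU a ^ n = slU (n * a) := by
  induction n with
  | zero => simp [slU_zero]
  | succ n ih => rw [pow_succ, ih, slU_mul_slU]; congr 1; push_cast; ring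

theorem slL_pow (a : K) (n : ℕ) : slL a ^ n = slL (n * a) := by
  induction n with
  | zero => simp [slL_zero]
  | succ n ih => rw [pow_succ, ih, slL_mul_slL]; congr 1; push_cast; ring

theorem slU_pow_char (p : ℕ) [CharP K p] (a : K) : slU a ^ p = 1 := by
  rw [slU_pow, CharP.cast_eq_zero, zero_mul, slU_zero]

theorem slL_pow_char (p : ℕ) [CharP K p] (a : K) : slL a ^ p = 1 := by
  rw [slL_pow, CharP.cast_eq_zero, zero_mul, slL_zero]

/-- A `p`-element of `SL₂` in characteristic `p` has trace `2`. -/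
theorem trace_eq_two_of_pow_char_pow_eq_one (p : ℕ) [Fact p.Prime] [CharP K p]
    (g : SpecialLinearGroup (Fin 2) K) {n : ℕ} (hg : g ^ (p ^ n) = 1) :
    (g : Matrix (Fin 2) (Fin 2) K) 0 0 + (g : Matrix (Fin 2) (Fin 2) K) 1 1 = 2 := by
  have h0 : (g : Matrix (Fin 2) (Fin 2) K) ^ (p ^ n) = 1 := by
    have := congrArg (fun A : SpecialLinearGroup (Fin 2) K => (A : Matrix (Fin 2) (Fin 2) K)) hg
    simpa using this
  have h1 : ((g : Matrix (Fin 2) (Fin 2) K) - 1) ^ (p ^ n) = 0 := by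
    rw [sub_pow_char_pow_of_commute p n (Commute.one_right _), one_pow, h0, sub_self]
  have h2 : IsNilpotent ((g : Matrix (Fin 2) (Fin 2) K) - 1) := ⟨_, h1⟩
  have h3 := (Matrix.isNilpotent_trace_of_isNilpotent h2).eq_zero
  rw [Matrix.trace_fin_two] at h3
  simp only [Matrix.sub_apply, Matrix.one_apply_eq] at h3
  linear_combination h3

theorem not_pow_char_pow_eq_one (p : ℕ) [Fact p.Prime] [CharP K p] {θ : K} (hθ : θ ≠ 0) (n : ℕ) :
    (slU θ * slL 1) ^ (p ^ n) ≠ 1 := by
  intro h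
  have := trace_eq_two_of_pow_char_pow_eq_one p _ h
  rw [Helper46.mul_00, Helper46.mul_11] at this
  simp at this
  apply hθ
  linear_combination this

theorem not_isPGroup_range (p : ℕ) [Fact p.Prime] [CharP K p] {Γ : Type*} [Group Γ]
    (φ : Γ →* SpecialLinearGroup (Fin 2) K) {x y : Γ} {θ : K} (hθ : θ ≠ 0) (hx : φ x = slU θ)
    (hy : φ y = slL 1) : ¬ IsPGroup p φ.range := by
  intro h
  obtain ⟨n, hn⟩ := h ⟨φ (x * y), ⟨x * y, rfl⟩⟩
  have h1 := congrArg Subtype.val hn
  simp only [SubmonoidClass.coe_pow, OneMemClass.coe_one, map_mul, hx, hy] at h1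
  exact not_pow_char_pow_eq_one p hθ n h1

end SL2facts

section Eigen

open Polynomial

variable {K : Type*} [Field K] [Fintype K] {W : Type*} [AddCommGroup W] [Module K W]
  [FiniteDimensional K W]

/-- An endomorphism over a finite field whose order has `p'`-part dividing `q - 1` and which is
not unipotent has an eigenvalue different from `1`. -/
theorem exists_hasEigenvalue_ne_one (p : ℕ) [Fact p.Prime] [CharP K p] (c : Module.End K W)
    (e : ℕ) (hc : c ^ (p ^ e * (Fintype.card K - 1)) = 1) (hn : ¬ IsNilpotent (c - 1)) :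
    ∃ ν : K, ν ≠ 1 ∧ c.HasEigenvalue ν := by
  by_contra hcon
  have hcon : ∀ ν : K, c.HasEigenvalue ν → ν = 1 := fun ν hν => by
    by_contra h
    exact hcon ⟨ν, h, hν⟩
  apply hn
  have hq : 1 ≤ Fintype.card K := Fintype.card_pos
  have hΨ : ((X ^ Fintype.card K - X : K[X])) ^ (p ^ e) =
      X ^ (Fintype.card K * p ^ e) - X ^ (p ^ e) := by
    rw [sub_pow_char_pow, ← pow_mul]
  have h0 : aeval c (((X ^ Fintype.card K - X : K[X])) ^ (p ^ e)) = 0 := by
    rw [hΨ, map_sub, map_pow, map_pow, aeval_X]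
    have : Fintype.card K * p ^ e = p ^ e * (Fintype.card K - 1) + p ^ e := by
      obtain ⟨q, hq'⟩ := Nat.exists_eq_add_of_le hq
      rw [hq']; simp; ring
    rw [this, pow_add, hc, one_mul, sub_self]
  have hdvd := minpoly.dvd K c h0
  have hne : ((X ^ Fintype.card K - X : K[X])) ^ (p ^ e) ≠ 0 :=
    pow_ne_zero _ (FiniteField.X_pow_card_sub_X_ne_zero K Fintype.one_lt_card)
  have hs : (X ^ Fintype.card K - X : K[X]).Splits := by
    have := Polynomial.splits_X_pow_nat_card_sub_X (K := K)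
    rwa [Nat.card_eq_fintype_card] at this
  have hsplit : (minpoly K c).Splits := (hs.pow _).of_dvd hne hdvd
  have hmonic : (minpoly K c).Monic := minpoly.monic (Algebra.IsIntegral.isIntegral c)
  have hroots : (minpoly K c).roots = Multiset.replicate (Multiset.card (minpoly K c).roots) 1 := by
    apply Multiset.eq_replicate_of_mem
    intro ν hν
    exact hcon ν (Module.End.hasEigenvalue_of_isRoot (isRoot_of_mem_roots hν))
  have h1 := hsplit.eq_prod_roots_of_monic hmonic
  rw [hroots, Multiset.map_replicate, Multiset.prod_replicate] at h1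
  generalize Multiset.card (minpoly K c).roots = j at h1
  refine ⟨j, ?_⟩
  have h2 := minpoly.aeval K c
  rw [h1] at h2
  simpa using h2

end Eigen

section QuadAlgebra

variable {k : Type*} [Field k] {M : Type*} [AddCommGroup M] [Module k M]

theorem map_inv_of_quadratic {Γ : Type*} [Group Γ] (ρ : Γ →* Module.End k M) (x : Γ)
    (hA : (ρ x - 1) * (ρ x - 1) = 0) : ρ x⁻¹ = 2 - ρ x := by
  have h1 : ρ x⁻¹ * ρ x = 1 := by rw [← map_mul, inv_mul_cancel, map_one]
  have h2 : ρ x * (2 - ρ x) = 1 := by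
    have : ρ x * (2 - ρ x) = 1 - (ρ x - 1) * (ρ x - 1) := by noncomm_ring
    rw [this, hA, sub_zero]
  calc ρ x⁻¹ = ρ x⁻¹ * (ρ x * (2 - ρ x)) := by rw [h2, mul_one]
    _ = 2 - ρ x := by rw [← mul_assoc, h1, one_mul]

/-- `t = AB + BA = c + c⁻¹ - 2` for `c = ab`. -/
theorem quad_t_eq {Γ : Type*} [Group Γ] (ρ : Γ →* Module.End k M) (x y : Γ)
    (hA : (ρ x - 1) * (ρ x - 1) = 0) (hB : (ρ y - 1) * (ρ y - 1) = 0) :
    (ρ x - 1) * (ρ y - 1) + (ρ y - 1) * (ρ x - 1) = ρ (x * y) + ρ (x * y)⁻¹ - 2 := by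
  rw [_root_.mul_inv_rev, map_mul, map_mul, map_inv_of_quadratic ρ x hA,
    map_inv_of_quadratic ρ y hB, ← one_add_one_eq_two]
  noncomm_ring

theorem quad_t_isNilpotent {Γ : Type*} [Group Γ] (ρ : Γ →* Module.End k M) (x y : Γ)
    (hA : (ρ x - 1) * (ρ x - 1) = 0) (hB : (ρ y - 1) * (ρ y - 1) = 0)
    (hc : IsNilpotent (ρ (x * y) - 1)) :
    IsNilpotent ((ρ x - 1) * (ρ y - 1) + (ρ y - 1) * (ρ x - 1)) := by
  rw [quad_t_eq ρ x y hA hB]
  set c := ρ (x * y)
  set c' := ρ (x * y)⁻¹
  have h1 : c' * c = 1 := by rw [← map_mul, inv_mul_cancel, map_one]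
  have h2 : c * c' = 1 := by rw [← map_mul, mul_inv_cancel, map_one]
  have h3 : c + c' - 2 = c' * ((c - 1) * (c - 1)) := by
    have : c' * ((c - 1) * (c - 1)) = c' * c * c - 2 * (c' * c) + c' := by noncomm_ring
    rw [this, h1, one_mul, mul_one]; abel
  have hcomm : Commute c' (c - 1) := by
    show c' * (c - 1) = (c - 1) * c'
    rw [mul_sub, sub_mul, h1, h2, mul_one, one_mul]
  rw [h3]
  exact (hcomm.mul_right hcomm).isNilpotent_mul_left
    ((Commute.refl (c - 1)).isNilpotent_mul_left hc)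

theorem quad_t_eigen {Γ : Type*} [Group Γ] (ρ : Γ →* Module.End k M) (x y : Γ)
    (hA : (ρ x - 1) * (ρ x - 1) = 0) (hB : (ρ y - 1) * (ρ y - 1) = 0) {ν : k} {m : M}
    (hm0 : m ≠ 0) (hm : ρ (x * y) m = ν • m) (hν : ν ≠ 1) :
    ν + ν⁻¹ - 2 ≠ 0 ∧
      ((ρ x - 1) * (ρ y - 1) + (ρ y - 1) * (ρ x - 1)) m = (ν + ν⁻¹ - 2) • m := by
  have h1 : ρ (x * y)⁻¹ (ρ (x * y) m) = m := by
    rw [← Module.End.mul_apply, ← map_mul, inv_mul_cancel, map_one]; rfl
  have hν0 : ν ≠ 0 := by
    rintro rfl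
    rw [hm, zero_smul, map_zero] at h1
    exact hm0 h1.symm
  have h2 : ρ (x * y)⁻¹ m = ν⁻¹ • m := by
    rw [hm, map_smul] at h1
    rw [← h1, smul_smul, inv_mul_cancel₀ hν0, one_smul, h1]
  constructor
  · intro h
    apply hν
    have : (ν - 1) ^ 2 = 0 := by
      have : (ν - 1) ^ 2 = (ν + ν⁻¹ - 2) * ν := by field_simp; ring
      rw [this, h, zero_mul]
    exact sub_eq_zero.mp (pow_eq_zero_iff (two_ne_zero) |>.mp this)
  · rw [quad_t_eq ρ x y hA hB, LinearMap.sub_apply, LinearMap.add_apply, hm, h2]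
    have : (2 : Module.End k M) m = (2 : k) • m := by
      rw [two_smul, ← one_add_one_eq_two]; rfl
    rw [this]
    module

end QuadAlgebra

end Cfsg.Agent.Lib.Helper14
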