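import Mathlib

set_option autoImplicit false

namespace Cfsg.Agent.Lib.Helper52.S3C

open Equiv Equiv.Perm Subgroup MulAction
open scoped Pointwise

/-- the 3-cycle `(3i, 3i+1, 3i+2)`. -/
def sylC (n i : ℕ) (hi : i < n / 3) : Perm (Fin n) :=
  swap ⟨3 * i, by omega⟩ ⟨3 * i + 1, by omega⟩ * swap ⟨3 * i, by omega⟩ ⟨3 * i + 2, by omega⟩

theorem sylC_three (n i : ℕ) (hi : i < n / 3) : (sylC n i hi).IsThreeCycle := by
  apply isThreeCycle_swap_mul_swap_same <;> simp [Fin.ext_iff]

theorem sylC_fix (n i : ℕ) (hi : i < n / 3) (x : Fin n) (hx : x.val / 3 ≠ i) :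
    sylC n i hi x = x := by
  unfold sylC
  have e1 : swap (⟨3 * i, by omega⟩ : Fin n) ⟨3 * i + 2, by omega⟩ x = x := by
    apply swap_apply_of_ne_of_ne <;> (intro h; rw [Fin.ext_iff] at h; simp only at h; omega)
  have e2 : swap (⟨3 * i, by omega⟩ : Fin n) ⟨3 * i + 1, by omega⟩ x = x := by
    apply swap_apply_of_ne_of_ne <;> (intro h; rw [Fin.ext_iff] at h; simp only at h; omega)
  rw [Perm.mul_apply, e1, e2]

theorem sylC_move (n i : ℕ) (hi : i < n / 3) (x : Fin n) (hx : x.val / 3 = i) :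
    sylC n i hi x ≠ x := by
  have h : x.val = 3 * i ∨ x.val = 3 * i + 1 ∨ x.val = 3 * i + 2 := by omega
  unfold sylC
  rw [Perm.mul_apply]
  rcases h with h | h | h
  · have e : x = ⟨3 * i, by omega⟩ := Fin.ext h
    rw [e, swap_apply_left, swap_apply_of_ne_of_ne] <;> simp [Fin.ext_iff]
  · have e : x = ⟨3 * i + 1, by omega⟩ := Fin.ext h
    have e1 : swap (⟨3 * i, by omega⟩ : Fin n) ⟨3 * i + 2, by omega⟩ ⟨3 * i + 1, by omega⟩
        = ⟨3 * i + 1, by omega⟩ := by
      apply swap_apply_of_ne_of_ne <;> simp [Fin.ext_iff]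
    rw [e, e1, swap_apply_right]; simp [Fin.ext_iff]
  · have e : x = ⟨3 * i + 2, by omega⟩ := Fin.ext h
    rw [e, swap_apply_right, swap_apply_left]; simp [Fin.ext_iff]

theorem sylC_commute (n i j : ℕ) (hi : i < n / 3) (hj : j < n / 3) :
    Commute (sylC n i hi) (sylC n j hj) := by
  by_cases hij : i = j
  · subst hij; exact Commute.refl _
  · apply Disjoint.commute
    intro x
    by_cases hx : x.val / 3 = i
    · right; exact sylC_fix n j hj x (by omega)
    · left; exact sylC_fix n i hi x hx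

theorem syl_isPGroup (n : ℕ) :
    IsPGroup 3 ↥(closure {c : Perm (Fin n) | ∃ (i : ℕ) (hi : i < n / 3), c = sylC n i hi}) := by
  set S := {c : Perm (Fin n) | ∃ (i : ℕ) (hi : i < n / 3), c = sylC n i hi} with hS
  have h1 : closure S ≤ centralizer S := by
    rw [closure_le]
    rintro _ ⟨i, hi, rfl⟩
    rw [SetLike.mem_coe, mem_centralizer_iff]
    rintro _ ⟨j, hj, rfl⟩
    exact (sylC_commute n j i hj hi).eq
  have h2 : closure S ≤ centralizer (closure S : Set (Perm (Fin n))) := by
    rw [closure_le]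
    intro c hc
    rw [SetLike.mem_coe, mem_centralizer_iff]
    intro g hg
    exact (mem_centralizer_iff.mp (h1 hg) c hc).symm
  have h3 : ∀ g ∈ closure S, g ^ 3 = 1 := by
    intro g hg
    induction hg using closure_induction with
    | mem g hg =>
      obtain ⟨i, hi, rfl⟩ := hg
      rw [← (sylC_three n i hi).orderOf]
      exact pow_orderOf_eq_one _
    | one => simp
    | mul a b ha hb iha ihb =>
      have hc : Commute a b := (mem_centralizer_iff.mp (h2 hb) a ha)
      rw [hc.mul_pow, iha, ihb, one_mul]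
    | inv a _ iha => rw [inv_pow, iha, inv_one]
  intro g
  refine ⟨1, ?_⟩
  rw [pow_one]
  exact Subtype.ext (h3 g g.2)

/-- [SYL] a Sylow 3-subgroup of `Sym(n)` contains 3-cycles covering all but at most 2 points. -/
theorem syl (n : ℕ) (P : Sylow 3 (Perm (Fin n))) :
    ∃ s : Finset (Fin n), s.card ≤ 2 ∧
      ∀ x, x ∉ s → ∃ c ∈ (P : Subgroup (Perm (Fin n))), c.IsThreeCycle ∧ c x ≠ x := by
  have : Fact (Nat.Prime 3) := ⟨Nat.prime_three⟩
  obtain ⟨Q, hQ⟩ := (syl_isPGroup n).exists_le_sylow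
  obtain ⟨g, hg⟩ := MulAction.exists_smul_eq (Perm (Fin n)) Q P
  have hmem : ∀ c ∈ (Q : Subgroup (Perm (Fin n))), g * c * g⁻¹ ∈ (P : Subgroup (Perm (Fin n))) := by
    intro c hc
    rw [← hg, Sylow.coe_subgroup_smul]
    exact Subgroup.smul_mem_pointwise_smul c (MulAut.conj g) _ hc
  refine ⟨(Finset.univ.filter (fun y : Fin n => 3 * (n / 3) ≤ y.val)).image g, ?_, ?_⟩
  · refine Finset.card_image_le.trans ?_
    have : (Finset.univ.filter (fun y : Fin n => 3 * (n / 3) ≤ y.val)).card
        ≤ (Finset.range 2).card := by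
      apply Finset.card_le_card_of_injOn (fun y => y.val - 3 * (n / 3))
      · intro y hy
        have hy' : 3 * (n / 3) ≤ y.val := by simpa using hy
        have := y.2
        simp only [Finset.coe_range, Set.mem_Iio]
        omega
      · intro y hy z hz hyz
        have hy' : 3 * (n / 3) ≤ y.val := by simpa using hy
        have hz' : 3 * (n / 3) ≤ z.val := by simpa using hz
        simp only at hyz
        exact Fin.ext (by omega)
    simpa using this
  · intro x hx
    have hy : (g⁻¹ x).val < 3 * (n / 3) := by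
      by_contra hcon
      apply hx
      rw [Finset.mem_image]
      exact ⟨g⁻¹ x, by simpa using hcon, by simp⟩
    have hi : (g⁻¹ x).val / 3 < n / 3 := by omega
    refine ⟨g * sylC n _ hi * g⁻¹, hmem _ (hQ (subset_closure ⟨_, hi, rfl⟩)), ?_, ?_⟩
    · unfold IsThreeCycle
      rw [cycleType_conj]
      exact sylC_three n _ hi
    · rw [Perm.mul_apply, Perm.mul_apply]
      intro h
      apply sylC_move n _ hi (g⁻¹ x) rfl
      apply g.injective
      rw [h]; simp

end Cfsg.Agent.Lib.Helper52.S3C
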