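import Cfsg.Agent.Lib.Helper14.Thompson

set_option autoImplicit false
open scoped commutatorElement

namespace Cfsg.Agent.Lib.Helper14

universe u

variable {S S' H : Type u} [Group S] [Group S'] [Group H] {p : ℕ}

theorem IsStableEmbedding.comp_equiv {τ : S →* H} (h : Cfsg.IsStableEmbedding p τ) (e : S' ≃* S) :
    Cfsg.IsStableEmbedding p (τ.comp e.toMonoidHom) := by
  obtain ⟨h1, h2, ⟨P, hP⟩, h4, h5, h6⟩ := h
  refine ⟨h1.comp e.injective, h2, ⟨P, ?_⟩, h4, ?_, ?_⟩
  · rw [hP, MonoidHom.range_comp, (MonoidHom.range_eq_top (f := e.toMonoidHom)).mpr e.surjective,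
      MonoidHom.range_eq_map]
  · rw [← Subgroup.map_map, map_thompsonSubgroup]
    exact h5
  · intro V _ hV
    rw [← Subgroup.map_map, map_omegaCenterThompson] at hV
    exact h6 V hV

theorem IsStableEmbedding.omegaCenterThompson_map_normal {τ : S →* H}
    (h : Cfsg.IsStableEmbedding p τ) : ((Cfsg.omegaCenterThompson p S).map τ).Normal := by
  obtain ⟨h1, -, -, -, h5, -⟩ := h
  rw [map_omegaCenterThompson_of_injective p τ h1]
  have : (Subgroup.centralizer (((Cfsg.thompsonSubgroup p S).map τ : Subgroup H) : Set H)).Normal :=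
    inferInstance
  exact omegaOne_normal p _

theorem omegaOne_center_le_stableNormalClosure (p : ℕ) (S : Type u) [Group S] :
    Cfsg.omegaOne p (Subgroup.center S) ≤ Cfsg.stableNormalClosure p S :=
  le_sInf fun _ hW => hW.1

theorem stableNormalClosure_le_omegaCenterThompson (p : ℕ) (S : Type u) [Group S] [Finite S] :
    Cfsg.stableNormalClosure p S ≤ Cfsg.omegaCenterThompson p S :=
  sInf_le ⟨omegaOne_center_le_omegaCenterThompson p,
    fun _ _ _ hτ => IsStableEmbedding.omegaCenterThompson_map_normal hτ⟩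

theorem IsStableEmbedding.stableNormalClosure_map_normal [Finite S] {τ : S →* H}
    (h : Cfsg.IsStableEmbedding p τ) : ((Cfsg.stableNormalClosure p S).map τ).Normal := by
  constructor
  rintro _ ⟨w, hw, rfl⟩ g
  have h0 := (IsStableEmbedding.omegaCenterThompson_map_normal h).conj_mem (τ w)
    (Subgroup.mem_map_of_mem τ (stableNormalClosure_le_omegaCenterThompson p S hw)) g
  obtain ⟨w', -, hw'⟩ := h0
  refine ⟨w', ?_, hw'⟩
  unfold Cfsg.stableNormalClosure
  rw [SetLike.mem_coe, Subgroup.mem_sInf]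
  intro W hW
  have h1 := (hW.2 H τ h).conj_mem (τ w)
    (Subgroup.mem_map_of_mem τ ((sInf_le hW : Cfsg.stableNormalClosure p S ≤ W) hw)) g
  obtain ⟨w'', hw''1, hw''2⟩ := h1
  have : w'' = w' := h.1 (hw''2.trans hw'.symm)
  rwa [← this]

theorem map_stableNormalClosure_le (p : ℕ) (e : S ≃* S') :
    (Cfsg.stableNormalClosure p S).map e.toMonoidHom ≤ Cfsg.stableNormalClosure p S' := by
  apply le_sInf
  rintro W' ⟨hW1, hW2⟩
  rw [Subgroup.map_le_iff_le_comap]
  apply sInf_le
  refine ⟨?_, ?_⟩
  · rw [← Subgroup.map_le_iff_le_comap]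
    refine le_trans ?_ hW1
    refine (map_omegaOne_le p _ _).trans (omegaOne_mono p ?_)
    rintro _ ⟨x, hx, rfl⟩
    rw [SetLike.mem_coe, Subgroup.mem_center_iff] at hx
    rw [Subgroup.mem_center_iff]
    intro y
    obtain ⟨y, rfl⟩ := e.surjective y
    have := congrArg e (hx y)
    simpa using this
  · intro H _ τ hτ
    have h1 := hW2 H (τ.comp e.symm.toMonoidHom) (IsStableEmbedding.comp_equiv hτ e.symm)
    have h2 : W'.map (τ.comp e.symm.toMonoidHom) = (W'.comap e.toMonoidHom).map τ := by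
      rw [← Subgroup.map_map, Subgroup.comap_equiv_eq_map_symm']
    rwa [h2] at h1

theorem map_stableNormalClosure (p : ℕ) (e : S ≃* S') :
    (Cfsg.stableNormalClosure p S).map e.toMonoidHom = Cfsg.stableNormalClosure p S' := by
  apply le_antisymm (map_stableNormalClosure_le p e)
  intro x hx
  exact ⟨e.symm x, map_stableNormalClosure_le p e.symm ⟨x, hx, rfl⟩, by simp⟩

end Cfsg.Agent.Lib.Helper14
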