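import Cfsg.Agent.Lib.Helper54.T16.Defs
import Cfsg.Agent.Lib.Helper14.BG16A

/-! Ladder T16, rung SN. -/

set_option autoImplicit false

namespace Cfsg.Agent.Lib.Helper14.T16

open Cfsg Subgroup Cfsg.Agent.Lib.Helper54.BGT Cfsg.Agent.Lib.Helper54.T16
  Cfsg.Agent.Lib.Helper28.BG12

universe u

variable {G : Type u} [Group G] [Finite G]

theorem selfNormalizing_aux {K L : Subgroup G} (hK1 : K ≠ ⊥) (hL1 : L ≠ ⊥) (hinf : K ⊓ L = ⊥)
    (hcomm : ∀ a ∈ K, ∀ b ∈ L, a * b = b * a) (hZc : IsCyclic ↥(K ⊔ L))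
    (h70a : IsTISubset ((↑(K ⊔ L) : Set G) \ ((K : Set G) ∪ ↑L)))
    (h70b : normalizer ((↑(K ⊔ L) : Set G) \ ((K : Set G) ∪ ↑L)) = K ⊔ L) :
    IsSelfNormalizingCyclic K L := by
  refine ⟨hK1, hL1, hinf, hcomm, hZc, ?_⟩
  intro X hX hXne
  apply le_antisymm
  · intro g hg
    rw [← h70b]
    by_contra hgn
    obtain ⟨x, hx⟩ := hXne
    have hgx : g * x * g⁻¹ ∈ X := (mem_set_normalizer_iff.mp hg x).mp hx
    have hx1 := h70a g hgn x (hX hx) (hX hgx)
    have := (hX hx).2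
    apply this
    left
    rw [hx1]; exact K.one_mem
  · intro z hz
    rw [mem_set_normalizer_iff]
    intro x
    have hcomm : ∀ x ∈ X, z * x * z⁻¹ = x := by
      intro x hx
      have hxZ : x ∈ K ⊔ L := (hX hx).1
      have := congrArg Subtype.val (comm_of_isCyclic hZc ⟨z, hz⟩ ⟨x, hxZ⟩)
      have h2 : z * x = x * z := this
      rw [h2, mul_inv_cancel_right]
    constructor
    · intro hx; rw [hcomm x hx]; exact hx
    · intro hx
      have h1 := hcomm _ hx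
      have h2 : z * x * z⁻¹ = x := by
        have h3 : z * (z * x * z⁻¹) * z⁻¹ = z * x * z⁻¹ := h1
        have h4 := congrArg (fun y => z⁻¹ * y * z) h3
        simpa [mul_assoc] using h4
      rw [← h2]; exact hx

/-- `#K` is prime to `#M_σ`. -/
theorem coprime_K_sigmaCore (hG : IsMinSimpleOddOrder G) {M K : Subgroup G} (hM : IsCoatom M)
    (hKH : IsPiHallOf (kappa M) K M) : (Nat.card K).Coprime (Nat.card (sigmaCore M)) :=
  Nat.coprime_of_dvd (fun p hp h1 h2 =>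
    (hKH.2.1 p hp h1).2.2.1 ((sigmaCore_hall hG hM).2.1 p hp h2))

/-- RUNG SN -/
theorem selfNormalizing_of (t64 : T1364 G) (t66 : T1366 G) (t68 : T1368 G) (t70 : T1370 G)
    (hG : IsMinSimpleOddOrder G) {M K U : Subgroup G} (hM : IsCoatom M)
    (hKU : IsSigmaDecomposition M K U) (hK1 : K ≠ ⊥) : IsSelfNormalizingCyclic K (Ks M K) := by
  obtain ⟨Ms, ⟨hMs, h1, h2⟩, -⟩ := t66 hG M hM K U hKU hK1
  obtain ⟨h70a, h70b⟩ := t70 hG M hM K U hKU hK1
  refine selfNormalizing_aux hK1 (t64 hG M hM K U hKU hK1).2.1 ?_ ?_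
    (t68 hG M hM K U hKU hK1 Ms hMs h1 h2).2 h70a h70b
  · exact (disjoint_of_coprime_natCard (Nat.Coprime.coprime_dvd_right
      (card_dvd_of_le inf_le_left) (coprime_K_sigmaCore hG hM hKU.hall))).eq_bot
  · intro a ha b hb
    exact mem_centralizer_iff.mp (mem_inf.mp hb).2 a ha

end Cfsg.Agent.Lib.Helper14.T16
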