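import Cfsg.Agent.Lib.Helper54.T16.Defs
import Cfsg.Agent.Lib.Helper14.T16SN

/-! Ladder T16, rung CK. -/

set_option autoImplicit false

namespace Cfsg.Agent.Lib.Helper14.T16

open Cfsg Subgroup Cfsg.Agent.Lib.Helper54.BGT Cfsg.Agent.Lib.Helper54.T16
  Cfsg.Agent.Lib.Helper28.BG12 Cfsg.Agent.Lib.Helper30

universe u

variable {G : Type u} [Group G] [Finite G]

/-- RUNG CK -/
theorem complIn_commutator (t65 : T1365 G) (hG : IsMinSimpleOddOrder G) {M K U : Subgroup G}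
    (hM : IsCoatom M) (hKU : IsSigmaDecomposition M K U) (hK1 : K ≠ ⊥) :
    IsComplIn ⁅M, M⁆ K M ∧ (Nat.card K).Coprime (K.relIndex M) ∧
      (Nat.card K).Coprime (Nat.card ↥⁅M, M⁆) := by
  have hM' := (t65 hG M hM K U hKU hK1).1
  have hKM : K ≤ M := hKU.hall.1
  have hUM : U ≤ M := hKU.compl.1
  have hKN : K ≤ normalizer (sigmaCore M : Set G) := hKM.trans (le_normalizer_sigmaCore M)
  have hUN : U ≤ normalizer (sigmaCore M : Set G) := hUM.trans (le_normalizer_sigmaCore M)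
  have hcop1 : (Nat.card K).Coprime (K.relIndex M) :=
    Nat.coprime_of_dvd (fun p hp h1 h2 => hKU.hall.2.2 p hp (hKU.hall.2.1 p hp h1) h2)
  have hcop2 := coprime_K_sigmaCore hG hM hKU.hall
  have hcU : Nat.card U ∣ K.relIndex M := by
    rw [card_compl hKU.compl, ← relIndex_mul_relIndex K (K ⊔ sigmaCore M) M le_sup_left
      hKU.compl.2.1]
    exact Dvd.intro_left _ rfl
  have hcop3 : (Nat.card K).Coprime (Nat.card ↥⁅M, M⁆) := by
    rw [hM']
    have h3 : Nat.card (U ⊔ sigmaCore M : Subgroup G) ∣ Nat.card U * Nat.card (sigmaCore M) :=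
      Dvd.intro _ (Cfsg.Agent.Lib.Helper12.card_sup_mul_card_inf' U (sigmaCore M) hUN)
    exact Nat.Coprime.coprime_dvd_right h3
      (Nat.Coprime.mul_right (Nat.Coprime.coprime_dvd_right hcU hcop1) hcop2)
  refine ⟨⟨commutator_le_self M, hKM, (disjoint_of_coprime_natCard hcop3.symm).eq_bot, ?_⟩,
    hcop1, hcop3⟩
  intro m hm
  obtain ⟨u, hu, x, hx, rfl⟩ := hKU.compl.2.2.2 m hm
  rw [sup_comm] at hx
  obtain ⟨s, hs, k, hk, rfl⟩ := (mem_sup_of_le_normalizer hKN).mp hx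
  refine ⟨u * s, ?_, k, hk, by rw [mul_assoc]⟩
  rw [hM']
  exact mul_mem (le_sup_left (b := sigmaCore M) hu) (le_sup_right (a := U) hs)

end Cfsg.Agent.Lib.Helper14.T16
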