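import Cfsg.Agent.Lib.Helper54.T16.Defs
import Cfsg.Agent.Lib.Helper14.BG16A
import Cfsg.Agent.Lib.Helper24.BG14B

/-! Ladder T16, rung KNE. -/

set_option autoImplicit false

namespace Cfsg.Agent.Lib.Helper14.T16

open Cfsg Subgroup Cfsg.Agent.Lib.Helper54.BGT Cfsg.Agent.Lib.Helper54.T16
  Cfsg.Agent.Lib.Helper28.BG12 Cfsg.Agent.Lib.Helper30

universe u

variable {G : Type u} [Group G] [Finite G]

/-- RUNG KNE -/
theorem K_ne_bot_of_typeP (t50 : T1350 G) (t55 : T1355 G) (hG : IsMinSimpleOddOrder G)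
    {M K U : Subgroup G} (hM : IsCoatom M) (hKU : IsSigmaDecomposition M K U)
    {W₁ V W₂ : Subgroup G} (h : IsTypePWith M W₁ V W₂) : K ≠ ⊥ := by
  have hW1M : W₁ ≤ M := h.W₁_compl.2.1
  have hcM' : Nat.card ↥⁅M, M⁆ = W₁.relIndex M := card_compl h.W₁_compl
  obtain ⟨r, hr, hrd⟩ := Nat.exists_prime_and_dvd
    (show Nat.card W₁ ≠ 1 from fun h1 => h.W₁_ne (card_eq_one.mp h1))
  have : Fact r.Prime := ⟨hr⟩
  have hrI : ¬ r ∣ W₁.relIndex M := fun h2 =>
    hr.one_lt.ne' (Nat.eq_one_of_dvd_coprimes h.W₁_hall hrd h2)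
  obtain ⟨-, hFle, hσM', -, -⟩ := t55 hG M hM
  have hrσ : r ∉ sigma M := by
    intro h1
    apply hrI
    rw [← hcM']
    obtain ⟨x, hx⟩ := exists_prime_orderOf_dvd_card' (G := W₁) r hrd
    have hxo : orderOf (x : G) = r := by rw [Subgroup.orderOf_coe, hx]
    have hzp : IsPGroup r (zpowers (x : G)) :=
      IsPGroup.of_card (n := 1) (by rw [Nat.card_zpowers, hxo, pow_one])
    have h3 : zpowers (x : G) ≤ ⁅M, M⁆ :=
      (isPGroup_le_sigmaCore hG hM h1 (zpowers_le.mpr (hW1M x.2)) hzp).trans hσM'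
    have h4 := card_dvd_of_le h3
    rwa [Nat.card_zpowers, hxo] at h4
  obtain ⟨R, hR⟩ := exists_isSylowIn r W₁
  have hRM : IsSylowIn r R M := by
    refine ⟨hR.le.trans hW1M, hR.isPGroup, ?_⟩
    rw [← relIndex_mul_relIndex R W₁ M hR.le hW1M]
    intro hd
    rcases (Nat.Prime.dvd_mul hr).mp hd with h1 | h1
    · exact hR.not_dvd h1
    · exact hrI h1
  have hW1c := h.W₁_cyclic
  have hRc : IsCyclic R := Subgroup.isCyclic_of_le hR.le
  have hrank : PRankLE r 1 M := by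
    apply Cfsg.Agent.Lib.Helper24.BG14.pRankLE_one_of_cyclic_sylow
    intro P
    obtain ⟨m, -, hm⟩ := hRM.conj (isSylowIn_of_sylow P)
    have hc2 : IsCyclic ((P : Subgroup M).map M.subtype) := by
      rw [hm]; exact Cfsg.Agent.Lib.Helper58.BG13.isCyclic_cj hRc m
    exact isCyclic_of_injective
      ((P : Subgroup M).equivMapOfInjective M.subtype M.subtype_injective).toMonoidHom
      ((P : Subgroup M).equivMapOfInjective M.subtype M.subtype_injective).injective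
  obtain ⟨x, hx⟩ := exists_prime_orderOf_dvd_card' (G := W₁) r hrd
  have hxo : orderOf (x : G) = r := by rw [Subgroup.orderOf_coe, hx]
  obtain ⟨y, hy, hy1⟩ := Cfsg.Agent.Lib.Helper27.BG14.exists_ne_one_of_ne_bot h.selfNormalizing.2.1
  have hκ : r ∈ kappa M :=
    mem_kappa_of hG hrσ hrank (hW1M x.2) hxo (hFle ((h.W₂_le.trans inf_le_left) hy)) hy1
      (h.selfNormalizing.2.2.2.1 x x.2 y hy)
  rintro rfl
  apply hKU.hall.2.2 _ hr hκ
  rw [relIndex_bot_left]
  exact hrd.trans (card_dvd_of_le hW1M)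

end Cfsg.Agent.Lib.Helper14.T16
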