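import Cfsg.Agent.Lib.Helper54.T16.Defs
import Cfsg.Agent.Lib.Helper2.BG16B

/-! Ladder T16, rungs TF, TFT, FHD. -/

set_option autoImplicit false

namespace Cfsg.Agent.Lib.Helper14.T16

open Cfsg Subgroup Cfsg.Agent.Lib.Helper54.BGT Cfsg.Agent.Lib.Helper54.T16
  Cfsg.Agent.Lib.Helper30

universe u

variable {G : Type u} [Group G] [Finite G]

/-- RUNG TF -/
theorem typeF_of {L H U U₁ U₀ : Subgroup G} (hsolv : Group.IsSolvable L) (hodd : Odd (Nat.card L))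
    (hH : fittingHallOf L = H) (hH1 : H ≠ ⊥) (hU1 : U ≠ ⊥) (hc : IsComplIn H U L)
    (hU₁U : U₁ ≤ U) (hU₁n : U ≤ normalizer (U₁ : Set G)) (hU₁c : IsMulCommutative U₁)
    (hU₁ : ∀ x ∈ H, x ≠ 1 → U ⊓ centralizer ({x} : Set G) ≤ U₁)
    (hU₀U : U₀ ≤ U) (hexp : Monoid.exponent U₀ = Monoid.exponent U)
    (hfree : ∀ u ∈ U₀, u ≠ 1 → ∀ x ∈ H, u * x = x * u → x = 1) : IsOfTypeF ↥L :=
  Cfsg.Agent.Lib.Helper2.BG16.isOfTypeF_of hsolv hodd hH hH1 hU1 hc hU₁U hU₁n hU₁c hU₁ hU₀U hexp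
    hfree

/-- RUNG TFT -/
theorem typeF_of_texts (t59 : T1359 G) (t60 : T1360 G) (hG : IsMinSimpleOddOrder G)
    {M K U : Subgroup G} (hM : IsCoatom M) (hKU : IsSigmaDecomposition M K U) (hU1 : U ≠ ⊥)
    (hσ : sigmaCore M ≠ ⊥) {L : Subgroup G} (hL : L = U ⊔ sigmaCore M)
    (hLF : fittingHallOf L = sigmaCore M) : IsOfTypeF ↥L := by
  have hUM : U ≤ M := hKU.compl.1
  have hσM : sigmaCore M ≤ M := Cfsg.Agent.Lib.Helper2.BG16.sigmaCore_le M
  have hLM : L ≤ M := hL ▸ sup_le hUM hσM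
  obtain ⟨U₀, hU₀U, hexp, hU₀⟩ := t60 hG M hM K U hKU
  refine typeF_of (U := U) (U₁ := closure ((U : Set G) ∩ sigmaHat M)) (U₀ := U₀)
    (solvable_of_ne_top hG (ne_top_of_le_ne_top hM.1 hLM))
    (Odd.of_dvd_nat hG.1 (card_subgroup_dvd_card L)) hLF hσ hU1
    (hL ▸ Cfsg.Agent.Lib.Helper2.BG16.isComplIn_sigmaCore_U hKU) ?_ ?_ (t59 hG M hM K U hKU) ?_
    hU₀U hexp ?_
  · rw [closure_le]; exact Set.inter_subset_left
  · intro u hu
    apply Cfsg.Agent.Lib.Helper28.BG12.mem_normalizer_of_cj_le'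
    have h1 : cj u (closure ((U : Set G) ∩ sigmaHat M)) =
        (closure ((U : Set G) ∩ sigmaHat M)).map (MulAut.conj u).toMonoidHom := rfl
    rw [h1, MonoidHom.map_closure, closure_le]
    rintro _ ⟨a, ⟨haU, haM, y, hy, hy1, hay⟩, rfl⟩
    apply Subgroup.subset_closure
    have hn := Cfsg.Agent.Lib.Helper2.BG16.le_normalizer_sigmaCore M (hUM hu)
    refine ⟨?_, ?_, u * y * u⁻¹, (mem_normalizer_iff.mp hn y).mp hy, ?_, ?_⟩
    · exact U.mul_mem (U.mul_mem hu haU) (U.inv_mem hu)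
    · exact M.mul_mem (M.mul_mem (hUM hu) haM) (M.inv_mem (hUM hu))
    · intro h
      apply hy1
      have := congrArg (fun z => u⁻¹ * z * u) h
      simpa [mul_assoc] using this
    · show u * a * u⁻¹ * (u * y * u⁻¹) = u * y * u⁻¹ * (u * a * u⁻¹)
      have e1 : u * a * u⁻¹ * (u * y * u⁻¹) = u * (a * y) * u⁻¹ := by group
      have e2 : u * y * u⁻¹ * (u * a * u⁻¹) = u * (y * a) * u⁻¹ := by group
      rw [e1, e2, hay]
  · intro x hx hx1 u hu
    apply Subgroup.subset_closure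
    refine ⟨(mem_inf.mp hu).1, hUM (mem_inf.mp hu).1, x, hx, hx1, ?_⟩
    exact mem_centralizer_singleton_iff.mp (mem_inf.mp hu).2
  · intro u hu hu1 x hx hux
    by_contra hx1
    exact hu1 (hU₀ u hu ⟨hUM (hU₀U hu), x, hx, hx1, hux⟩)

/-- RUNG FHD -/
theorem fittingHallOf_commutator (t55 : T1355 G) (hG : IsMinSimpleOddOrder G) {M K : Subgroup G}
    (hM : IsCoatom M)
    (hck : IsComplIn ⁅M, M⁆ K M ∧ (Nat.card K).Coprime (K.relIndex M) ∧
      (Nat.card K).Coprime (Nat.card ↥⁅M, M⁆)) :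
    fittingHallOf ⁅M, M⁆ = fittingHallOf M := by
  obtain ⟨-, hFσ, hσM', -, -⟩ := t55 hG M hM
  have hDM : ⁅M, M⁆ ≤ M := commutator_le_self M
  have hMD : M ≤ normalizer ((⁅M, M⁆ : Subgroup G) : Set G) :=
    le_normalizer_commutator le_normalizer le_normalizer
  have hle : fittingHallOf M ≤ ⁅M, M⁆ := hFσ.trans hσM'
  apply le_antisymm
  · apply Cfsg.Agent.Lib.Helper56.BG152.le_fittingHallOf
      ((Cfsg.Agent.Lib.Helper29.fittingHallOf_le _).trans hDM)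
      (Cfsg.Agent.Lib.Helper2.BG16.le_normalizer_fittingHallOf_of_le hMD)
      (Cfsg.Agent.Lib.Helper2.BG16.fittingHallOf_nilpotent _)
    rw [← relIndex_mul_relIndex _ _ M (Cfsg.Agent.Lib.Helper29.fittingHallOf_le _) hDM]
    apply Nat.Coprime.mul_right (Cfsg.Agent.Lib.Helper2.BG16.fittingHallOf_coprime _)
    rw [← Cfsg.Agent.Lib.Helper28.BG12.card_compl' hck.1]
    exact (Nat.Coprime.coprime_dvd_right
      (card_dvd_of_le (Cfsg.Agent.Lib.Helper29.fittingHallOf_le _)) hck.2.2).symm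
  · apply Cfsg.Agent.Lib.Helper56.BG152.le_fittingHallOf hle
      (hDM.trans (Cfsg.Agent.Lib.Helper2.BG16.le_normalizer_fittingHallOf_of_le le_normalizer))
      (Cfsg.Agent.Lib.Helper2.BG16.fittingHallOf_nilpotent M)
    apply Nat.Coprime.coprime_dvd_right _ (Cfsg.Agent.Lib.Helper2.BG16.fittingHallOf_coprime M)
    rw [← relIndex_mul_relIndex _ _ M hle hDM]
    exact Dvd.intro _ rfl

end Cfsg.Agent.Lib.Helper14.T16
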