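import Cfsg.Agent.Lib.Helper54.T16.Defs
import Cfsg.Agent.Lib.Helper14.T16SN

/-! Ladder T16, rung TP. -/

set_option autoImplicit false

namespace Cfsg.Agent.Lib.Helper14.T16

open Cfsg Subgroup Cfsg.Agent.Lib.Helper54.BGT Cfsg.Agent.Lib.Helper54.T16
  Cfsg.Agent.Lib.Helper28.BG12 Cfsg.Agent.Lib.Helper30

universe u

variable {G : Type u} [Group G] [Finite G]

/-- RUNG TP -/
theorem typeP_of (t54 : T1354 G) (t56 : T1356 G) (t64 : T1364 G) (t65 : T1365 G)
    (hG : IsMinSimpleOddOrder G) {M K U : Subgroup G} (hM : IsCoatom M)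
    (hKU : IsSigmaDecomposition M K U) (hK1 : K ≠ ⊥)
    (hck : IsComplIn ⁅M, M⁆ K M ∧ (Nat.card K).Coprime (K.relIndex M) ∧
      (Nat.card K).Coprime (Nat.card ↥⁅M, M⁆))
    (hsn : IsSelfNormalizingCyclic K (Ks M K)) {V : Subgroup G} (hVn : Group.IsNilpotent V)
    (hKV : K ≤ normalizer (V : Set G)) (hVc : IsComplIn (fittingHallOf M) V ⁅M, M⁆) :
    IsTypePWith M K V (Ks M K) := by
  obtain ⟨h56a, h56b, h56c⟩ := t56 hG M hM
  obtain ⟨-, -, h64c, h64d⟩ := t64 hG M hM K U hKU hK1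
  obtain ⟨-, h65b⟩ := t65 hG M hM K U hKU hK1
  have hκ : (kappa M).Nonempty := by
    obtain ⟨p, hp, hpd⟩ := Nat.exists_prime_and_dvd
      (show Nat.card K ≠ 1 from fun h => hK1 (card_eq_one.mp h))
    exact ⟨p, hKU.hall.2.1 p hp hpd⟩
  have hKsM' : Ks M K ≤ ⁅M, M⁆ := h65b.trans (commutator_le_self _)
  refine ⟨hK1, hKU.cyclic, hck.2.1, hck.1, hVn, hKV, hVc, h64d, ?_, ?_, h56c hκ,
    le_inf h64c h65b, ?_, hsn⟩
  · rw [sup_comm, ← h56b]; exact h56a
  · rw [sup_comm, ← h56b]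
  · intro x hx hx1
    have h54 := (t54 hG M hM K hKU.cyclic hKU.hall).2 hK1 x hx hx1
    apply le_antisymm
    · intro z hz
      have hzM : z ∈ M ⊓ centralizer ({x} : Set G) :=
        mem_inf.mpr ⟨commutator_le_self M (mem_inf.mp hz).1, (mem_inf.mp hz).2⟩
      rw [h54] at hzM
      have hN : Ks M K ≤ normalizer (K : Set G) :=
        (inf_le_right.trans (centralizer_le_normalizer _))
      obtain ⟨k, hk, s, hs, rfl⟩ := (mem_sup_of_le_normalizer hN).mp hzM
      have hk' : k ∈ ⁅M, M⁆ ⊓ K := by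
        refine mem_inf.mpr ⟨?_, hk⟩
        have := mul_mem (mem_inf.mp hz).1 (inv_mem (hKsM' hs))
        rwa [mul_inv_cancel_right] at this
      rw [hck.1.2.2.1, mem_bot] at hk'
      rw [hk', one_mul]; exact hs
    · refine le_inf hKsM' ?_
      intro s hs
      rw [mem_centralizer_singleton_iff]
      exact (mem_centralizer_iff.mp (mem_inf.mp hs).2 x hx).symm

end Cfsg.Agent.Lib.Helper14.T16
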