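import Cfsg.Agent.Lib.Helper54.T16.Defs
import Cfsg.Agent.Lib.Helper14.T16SN

/-! Ladder T16, rung UNE. -/

set_option autoImplicit false

namespace Cfsg.Agent.Lib.Helper14.T16

open Cfsg Subgroup Cfsg.Agent.Lib.Helper54.BGT Cfsg.Agent.Lib.Helper54.T16
  Cfsg.Agent.Lib.Helper28.BG12 Cfsg.Agent.Lib.Helper30

universe u

variable {G : Type u} [Group G] [Finite G]

/-- a complement of `M_F` in `M'` is a Hall subgroup. -/
theorem isPiHallOf_of_compl {M V : Subgroup G} (hV : IsComplIn (fittingHallOf M) V ⁅M, M⁆) :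
    IsPiHallOf {r | r ∣ Nat.card (fittingHallOf M)}ᶜ V ⁅M, M⁆ := by
  have hVM : V ≤ M := hV.2.1.trans (commutator_le_self M)
  have hcop := Cfsg.Agent.Lib.Helper29.coprime_card_fittingHallOf_of_disjoint M V hVM hV.2.2.1
  refine ⟨hV.2.1, fun p hp hpd hpπ => ?_, fun p _ hpπ hpd => ?_⟩
  · exact hp.one_lt.ne' (Nat.eq_one_of_dvd_coprimes hcop hpπ hpd)
  · rw [← card_compl hV] at hpd
    exact hpπ hpd

/-- RUNG UNE -/
theorem U_ne_bot_of_typeII (t65 : T1365 G) (t82 : T1382 G) (hG : IsMinSimpleOddOrder G)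
    {M K U : Subgroup G} (hM : IsCoatom M) (hKU : IsSigmaDecomposition M K U) (hK1 : K ≠ ⊥)
    (h : IsOfTypeII M) : U ≠ ⊥ := by
  intro hU
  obtain ⟨W₁, V, W₂, hP, hV1, -, -, -, hNV, -, -⟩ := h
  have hM' : ⁅M, M⁆ = sigmaCore M := by
    rw [(t65 hG M hM K U hKU hK1).1, hU, bot_sup_eq]
  have hne : fittingHallOf M ≠ sigmaCore M := by
    intro heq
    apply hV1
    rw [eq_bot_iff, ← hP.U_compl.2.2.1, heq, ← hM']
    exact le_inf hP.U_compl.2.1 le_rfl
  have hsolv : Group.IsSolvable ↥⁅M, M⁆ :=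
    solvable_of_ne_top hG (ne_top_of_le_ne_top hM.1 (commutator_le_self M))
  have key : ∀ V' : Subgroup G, IsComplIn (fittingHallOf M) V' ⁅M, M⁆ →
      normalizer (V' : Set G) ≤ M → False := by
    intro V' hV' hN
    obtain ⟨g, hg, hgV⟩ := Cfsg.Agent.Lib.Helper66.isPiHallOf_exists_conj hsolv
      (isPiHallOf_of_compl hV') (isPiHallOf_of_compl hP.U_compl)
    apply hNV
    rw [hgV, normalizer_cj]
    calc cj g (normalizer (V' : Set G)) ≤ cj g M := cj_mono g hN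
      _ = M := cj_eq_of_mem_normalizer (le_normalizer (commutator_le_self M hg))
  rcases (t82 hG M hM K U hKU).mpr ⟨hK1, hU, hne⟩ with
    ⟨_, V', _, hP', -, -, -, -, hN⟩ | ⟨_, V', _, hP', -, -, -, -, hN⟩
  · exact key V' hP'.U_compl hN
  · exact key V' hP'.U_compl hN

end Cfsg.Agent.Lib.Helper14.T16
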